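import Mathlib
import Cfsg.Prelude.Def_SporCoxeter
import Cfsg.Agent.Helper28.TCC

/-!
# Elementary facts on groups presented on a Coxeter graph (helper28)
-/

set_option autoImplicit false

namespace Cfsg.Agent.Helper28

section Cox

variable {α : Type} [DecidableEq α] (edges : List (α × ℕ × α)) (extra : List (FreeGroup α))

/-- nodes with label 2 commute -/
theorem cox_comm (x y : α) (hx : x ∈ Cfsg.Spor.coxNodes edges) (hy : y ∈ Cfsg.Spor.coxNodes edges)
    (h2 : Cfsg.Spor.coxLabel edges x y = 2) :
    (PresentedGroup.of x : Cfsg.Spor.CoxPresented α edges extra) * PresentedGroup.of y =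
      PresentedGroup.of y * PresentedGroup.of x := by
  have h := cox_pair edges extra x y hx hy
  rw [h2] at h
  have hxx := cox_sq edges extra x hx
  have hyy := cox_sq edges extra y hy
  have e1 : (PresentedGroup.of x : Cfsg.Spor.CoxPresented α edges extra)⁻¹ = PresentedGroup.of x :=
    (eq_inv_of_mul_eq_one_left hxx).symm
  have e2 : (PresentedGroup.of y : Cfsg.Spor.CoxPresented α edges extra)⁻¹ = PresentedGroup.of y :=
    (eq_inv_of_mul_eq_one_left hyy).symm
  have h3 : (PresentedGroup.of x : Cfsg.Spor.CoxPresented α edges extra) * PresentedGroup.of y =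
      ((PresentedGroup.of x : Cfsg.Spor.CoxPresented α edges extra) * PresentedGroup.of y)⁻¹ := by
    rw [eq_inv_iff_mul_eq_one, ← pow_two]; exact h
  rw [h3, mul_inv_rev, e1, e2]

/-- nodes with label 3 are conjugate -/
theorem cox_braid (x y : α) (hx : x ∈ Cfsg.Spor.coxNodes edges) (hy : y ∈ Cfsg.Spor.coxNodes edges)
    (h3 : Cfsg.Spor.coxLabel edges x y = 3) :
    ((PresentedGroup.of x : Cfsg.Spor.CoxPresented α edges extra) * PresentedGroup.of y) *
      PresentedGroup.of x * ((PresentedGroup.of x : Cfsg.Spor.CoxPresented α edges extra) *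
        PresentedGroup.of y)⁻¹ = PresentedGroup.of y := by
  have h := cox_pair edges extra x y hx hy
  rw [h3] at h
  have hxx := cox_sq edges extra x hx
  have hyy := cox_sq edges extra y hy
  generalize (PresentedGroup.of x : Cfsg.Spor.CoxPresented α edges extra) = X at *
  generalize (PresentedGroup.of y : Cfsg.Spor.CoxPresented α edges extra) = Y at *
  have e1 : X⁻¹ = X := (eq_inv_of_mul_eq_one_left hxx).symm
  have e2 : Y⁻¹ = Y := (eq_inv_of_mul_eq_one_left hyy).symm
  -- X Y X Y⁻¹ X⁻¹ = Y  ⟸  (X Y)^3 = 1
  have h4 : X * Y * X * (X * Y)⁻¹ * Y⁻¹ = (X * Y) ^ 3 := by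
    rw [mul_inv_rev, e1, e2, pow_succ, pow_two]
    simp only [mul_assoc]
  rw [h] at h4
  exact mul_inv_eq_one.mp h4

/-- a normal subgroup containing a node contains the nodes joined to it with label 3 -/
theorem cox_normal_edge (N : Subgroup (Cfsg.Spor.CoxPresented α edges extra)) (hN : N.Normal)
    (x y : α) (hx : x ∈ Cfsg.Spor.coxNodes edges) (hy : y ∈ Cfsg.Spor.coxNodes edges)
    (h3 : Cfsg.Spor.coxLabel edges x y = 3) (hxN : PresentedGroup.of x ∈ N) :
    PresentedGroup.of y ∈ N := by
  rw [← cox_braid edges extra x y hx hy h3]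
  exact hN.conj_mem _ hxN _

/-- in the abelianisation, nodes joined with label 3 have the same image -/
theorem cox_ab_edge (x y : α) (hx : x ∈ Cfsg.Spor.coxNodes edges) (hy : y ∈ Cfsg.Spor.coxNodes edges)
    (h3 : Cfsg.Spor.coxLabel edges x y = 3) :
    (Abelianization.of (PresentedGroup.of x : Cfsg.Spor.CoxPresented α edges extra)) =
      Abelianization.of (PresentedGroup.of y : Cfsg.Spor.CoxPresented α edges extra) := by
  rw [← cox_braid edges extra x y hx hy h3, map_mul, map_mul, map_inv]
  rw [mul_comm, ← mul_assoc, inv_mul_cancel, one_mul]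

theorem cox_ab_sq (x : α) (hx : x ∈ Cfsg.Spor.coxNodes edges) :
    (Abelianization.of (PresentedGroup.of x : Cfsg.Spor.CoxPresented α edges extra)) *
      Abelianization.of (PresentedGroup.of x : Cfsg.Spor.CoxPresented α edges extra) = 1 := by
  rw [← map_mul, cox_sq edges extra x hx, map_one]

end Cox

/-- The commutator subgroup is everything if all generators die in the abelianisation. -/
theorem commutator_eq_top_of_gens {α : Type*} (rels : Set (FreeGroup α))
    (h : ∀ x : α, Abelianization.of (PresentedGroup.of x : PresentedGroup rels) = 1) :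
    commutator (PresentedGroup rels) = ⊤ := by
  have hker : (Abelianization.of : PresentedGroup rels →* _).ker = ⊤ := by
    rw [eq_top_iff, ← PresentedGroup.closure_range_of]
    apply (Subgroup.closure_le _).mpr
    rintro _ ⟨x, rfl⟩
    exact MonoidHom.mem_ker.mpr (h x)
  rw [eq_top_iff]
  intro g _
  have hg : g ∈ (Abelianization.of : PresentedGroup rels →* _).ker := by rw [hker]; trivial
  have h1 : Abelianization.of g = 1 := MonoidHom.mem_ker.mp hg
  exact (QuotientGroup.eq_one_iff g).mp h1

/-- The range of a homomorphism from a presented group is generated by the images of the generators. -/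
theorem toGroup_range {α : Type*} {G : Type*} [Group G] (rels : Set (FreeGroup α)) (v : α → G)
    (h : ∀ r ∈ rels, FreeGroup.lift v r = 1) :
    (PresentedGroup.toGroup h).range = Subgroup.closure (Set.range v) := by
  rw [MonoidHom.range_eq_map, ← PresentedGroup.closure_range_of, MonoidHom.map_closure,
    ← Set.range_comp]
  congr 2
  funext x
  exact PresentedGroup.toGroup.of h

/-- The image of a subgroup generated by words. -/
theorem toGroup_map_closure {α : Type*} {G : Type*} [Group G] (rels : Set (FreeGroup α)) (v : α → G)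
    (h : ∀ r ∈ rels, FreeGroup.lift v r = 1) (S : Set (FreeGroup α)) :
    ((Subgroup.closure S).map (PresentedGroup.mk rels)).map (PresentedGroup.toGroup h) =
      Subgroup.closure ((fun s => FreeGroup.lift v s) '' S) := by
  rw [Subgroup.map_map, MonoidHom.map_closure]
  rfl

/-- The lift of the images of the generators under a map of generators. -/
theorem lift_of_comp {α β : Type*} (rels : Set (FreeGroup α)) (ι : β → α) (r : FreeGroup β) :
    FreeGroup.lift (fun y => (PresentedGroup.of (ι y) : PresentedGroup rels)) r =
      PresentedGroup.mk rels (FreeGroup.map ι r) := by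
  have : FreeGroup.lift (fun y => (PresentedGroup.of (ι y) : PresentedGroup rels)) =
      (PresentedGroup.mk rels).comp (FreeGroup.map ι) := by
    apply FreeGroup.ext_hom
    intro y
    rw [FreeGroup.lift_apply_of, MonoidHom.comp_apply, FreeGroup.map.of]
    rfl
  rw [this]; rfl

end Cfsg.Agent.Helper28
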