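import Mathlib
import Cfsg.Prelude.Def_GeometricClasses
import Cfsg.Prelude.Def_LieClassical
import Cfsg.Agent.Helper69.E3Def
import Cfsg.Agent.Helper5.UnitSU
set_option autoImplicit false

/-! # CALL S5999, piece GUE: the standard `3^{1+2}` lies in `GU_3(p)` when `3 ∣ p + 1` -/

namespace Cfsg.Agent.Helper28
open Cfsg.Agent.Helper69

theorem e3u_le_GU {F : Type*} [Field F] [Fintype F] {p : ℕ} (hF : Fintype.card F = p ^ 2)
    (ω : F) (hω3 : ω ^ 3 = 1) (h3 : 3 ∣ p + 1) : E3 ω ≤ Cfsg.GU 3 F p := by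
  unfold E3
  rw [Subgroup.closure_le]
  rintro g (hg | hg)
  · show g ∈ Cfsg.GU 3 F p
    show ∀ u v, Cfsg.hermForm 3 F p ((g : Matrix (Fin 3) (Fin 3) F).mulVec u)
      ((g : Matrix (Fin 3) (Fin 3) F).mulVec v) = Cfsg.hermForm 3 F p u v
    intro u v
    rw [hg]
    unfold Cfsg.hermForm e3X
    simp [Fin.sum_univ_three, Matrix.mulVec, dotProduct]
    ring
  · obtain ⟨k, hk⟩ := h3
    have h1 : ω ^ (p + 1) = 1 := by rw [hk, pow_mul, hω3, one_pow]
    refine Cfsg.Agent.Helper5.diagonal_mem_GU ![1, ω, ω ^ 2] ?_ g ?_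
    · intro i
      fin_cases i
      · simp
      · exact h1
      · show (ω ^ 2) ^ (p + 1) = 1
        rw [← pow_mul, mul_comm, pow_mul, h1, one_pow]
    · rw [hg]
      unfold e3Z
      ext i j
      fin_cases i <;> fin_cases j <;> simp

end Cfsg.Agent.Helper28
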