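import Mathlib
import Cfsg.Prelude.Def_GeometricClasses
import Cfsg.Prelude.Def_LieClassical
import Cfsg.Agent.Helper69.E3Def
set_option autoImplicit false

/-! # CALL S5999, piece SCHUR: a matrix intertwining the two generators of `3^{1+2}` is scalar -/

namespace Cfsg.Agent.Helper28
open Cfsg.Agent.Helper69

theorem e3u_schur {F : Type*} [Field F] (ω : F) (hω1 : ω ≠ 1) (hω3 : ω ^ 3 = 1)
    (M : Matrix (Fin 3) (Fin 3) F) (hX : (e3X F).transpose * M * e3X F = M)
    (hZ : e3Z ω * M * e3Z ω ^ 2 = M) :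
    ∃ c : F, M = c • (1 : Matrix (Fin 3) (Fin 3) F) := by
  have hω2 : ω ^ 2 ≠ 1 := by
    intro h
    apply hω1
    have h4 : ω ^ 3 = ω := by rw [pow_succ, h, one_mul]
    rw [← h4, hω3]
  have hz : e3Z ω = Matrix.diagonal ![1, ω, ω ^ 2] := by
    unfold e3Z
    ext i j
    fin_cases i <;> fin_cases j <;> simp
  have e : ∀ i j, ![1, ω, ω ^ 2] i * M i j * (![1, ω, ω ^ 2] j) ^ 2 = M i j := by
    intro i j
    have h := congrFun (congrFun hZ i) j
    rw [hz, Matrix.diagonal_pow, Matrix.mul_diagonal, Matrix.diagonal_mul] at h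
    exact h
  have s1 : ∀ x : F, (ω - 1) * x = 0 → x = 0 := by
    intro x hx
    rcases mul_eq_zero.mp hx with h | h
    · exact absurd (sub_eq_zero.mp h) hω1
    · exact h
  have s2 : ∀ x : F, (ω ^ 2 - 1) * x = 0 → x = 0 := by
    intro x hx
    rcases mul_eq_zero.mp hx with h | h
    · exact absurd (sub_eq_zero.mp h) hω2
    · exact h
  have h01 : 1 * M 0 1 * ω ^ 2 = M 0 1 := e 0 1
  have h02 : 1 * M 0 2 * (ω ^ 2) ^ 2 = M 0 2 := e 0 2
  have h10 : ω * M 1 0 * 1 ^ 2 = M 1 0 := e 1 0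
  have h12 : ω * M 1 2 * (ω ^ 2) ^ 2 = M 1 2 := e 1 2
  have h20 : ω ^ 2 * M 2 0 * 1 ^ 2 = M 2 0 := e 2 0
  have h21 : ω ^ 2 * M 2 1 * ω ^ 2 = M 2 1 := e 2 1
  have m01 : M 0 1 = 0 := s2 _ (by linear_combination h01)
  have m02 : M 0 2 = 0 := s1 _ (by linear_combination h02 - ω * M 0 2 * hω3)
  have m10 : M 1 0 = 0 := s1 _ (by linear_combination h10)
  have m12 : M 1 2 = 0 := s2 _ (by linear_combination h12 - ω ^ 2 * M 1 2 * hω3)
  have m20 : M 2 0 = 0 := s2 _ (by linear_combination h20)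
  have m21 : M 2 1 = 0 := s1 _ (by linear_combination h21 - ω * M 2 1 * hω3)
  have x00 := congrFun (congrFun hX 0) 0
  have x11 := congrFun (congrFun hX 1) 1
  simp [e3X, Matrix.mul_apply, Fin.sum_univ_three] at x00 x11
  refine ⟨M 0 0, ?_⟩
  ext i j
  fin_cases i <;> fin_cases j <;> simp [m01, m02, m10, m12, m20, m21]
  · exact x00
  · exact x11.trans x00

end Cfsg.Agent.Helper28
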