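import Mathlib

/-!
# Group-theoretic lemmas for orders and simplicity of presented groups (helper28)

* `card_range_le`: the order of the image of a group in which a subgroup has index `n`
* `lb_step`: a lower bound for the order of a subgroup from elements in distinct cosets
* `maximal_of_orbits`: a subgroup is maximal if no union of its orbits on its cosets has a size
  dividing the index
* `iwasawa_simple`: Iwasawa's criterion, for a maximal subgroup with an abelian normal subgroup
-/

set_option autoImplicit false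

namespace Cfsg.Agent.Helper28

/-- If `K` has index `n` in `Q`, the image of `Q` has at most `n` times as many elements as the
image of `K`. -/
theorem card_range_le {Q G : Type*} [Group Q] [Group G] (f : Q →* G) (K : Subgroup Q) (n : ℕ)
    (hn : K.index = n) (hn0 : 0 < n) (hfin : Finite (K.map f)) :
    Finite f.range ∧ Nat.card f.range ≤ n * Nat.card (K.map f) := by
  have hsurj : Function.Surjective f.rangeRestrict := f.rangeRestrict_surjective
  have hdvd : (K.map f.rangeRestrict).index ∣ K.index := Subgroup.index_map_dvd K hsurj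
  rw [hn] at hdvd
  have hle : (K.map f.rangeRestrict).index ≤ n := Nat.le_of_dvd hn0 hdvd
  have hpos : 0 < (K.map f.rangeRestrict).index := Nat.pos_of_dvd_of_pos hdvd hn0
  have hmm : (K.map f.rangeRestrict).map f.range.subtype = K.map f := by
    rw [Subgroup.map_map]
    rfl
  have hcard : Nat.card (K.map f.rangeRestrict) = Nat.card (K.map f) := by
    rw [← hmm]
    exact Nat.card_congr
      ((K.map f.rangeRestrict).equivMapOfInjective _ f.range.subtype_injective).toEquiv
  have hmul := (K.map f.rangeRestrict).card_mul_index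
  have hKpos : 0 < Nat.card (K.map f) := Nat.card_pos
  have hne : Nat.card f.range ≠ 0 := by
    rw [← hmul, hcard]
    exact Nat.mul_ne_zero (Nat.pos_iff_ne_zero.mp hKpos) (Nat.pos_iff_ne_zero.mp hpos)
  refine ⟨Nat.finite_of_card_ne_zero hne, ?_⟩
  rw [← hmul, hcard, Nat.mul_comm]
  exact Nat.mul_le_mul_right _ hle

/-- Elements of `U` in distinct cosets of `U'` bound the order of `U` from below. -/
theorem lb_step {G : Type*} [Group G] [Finite G] (U U' : Subgroup G) (m : ℕ) (r : ℕ → G)
    (hr : ∀ t, t < m → r t ∈ U) (hU : U' ≤ U)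
    (hd : ∀ s t, s < m → t < m → (r s)⁻¹ * r t ∈ U' → s = t) :
    m * Nat.card U' ≤ Nat.card U := by
  let F : Fin m × U' → U := fun p => ⟨r p.1 * p.2, U.mul_mem (hr p.1 p.1.2) (hU p.2.2)⟩
  have hF : Function.Injective F := by
    rintro ⟨s, x⟩ ⟨t, y⟩ h
    have h1 : r s * (x : G) = r t * (y : G) := congrArg Subtype.val h
    have h2 : (r s)⁻¹ * r t = (x : G) * (y : G)⁻¹ := by
      rw [inv_mul_eq_iff_eq_mul, ← mul_assoc, h1, mul_inv_cancel_right]
    have h3 : (r s)⁻¹ * r t ∈ U' := by rw [h2]; exact U'.mul_mem x.2 (U'.inv_mem y.2)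
    have hst : (s : ℕ) = t := hd s t s.2 t.2 h3
    have hst' : s = t := Fin.ext hst
    subst hst'
    have h4 : (x : G) = y := mul_left_cancel h1
    have h5 : x = y := Subtype.ext h4
    rw [h5]
  have := Nat.card_le_card_of_injective F hF
  rwa [Nat.card_prod, Nat.card_fin] at this

/-- Iwasawa's criterion: a perfect group with a maximal subgroup `H` of trivial core, which has an
abelian normal subgroup `A` whose conjugates generate the group, is simple. -/
theorem iwasawa_simple {G : Type*} [Group G] [Nontrivial G] (H A : Subgroup G)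
    (hmax : ∀ L : Subgroup G, H ≤ L → L = H ∨ L = ⊤)
    (hAH : ∀ h ∈ H, ∀ a ∈ A, h * a * h⁻¹ ∈ A)
    (hcomm : IsMulCommutative A)
    (hgen : Subgroup.normalClosure (A : Set G) = ⊤)
    (hperf : commutator G = ⊤)
    (hcore : ∀ N : Subgroup G, N.Normal → N ≤ H → N = ⊥) : IsSimpleGroup G := by
  refine ⟨fun N hN => ?_⟩
  by_cases hNH : N ≤ H
  · exact Or.inl (hcore N hN hNH)
  · right
    have hsup : H ⊔ N = ⊤ := by
      rcases hmax (H ⊔ N) le_sup_left with h | h
      · exact absurd (h ▸ (le_sup_right : N ≤ H ⊔ N)) hNH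
      · exact h
    have hNA : N ⊔ A = ⊤ := by
      rw [eq_top_iff, ← hgen]
      show Subgroup.closure (Group.conjugatesOfSet (A : Set G)) ≤ N ⊔ A
      apply (Subgroup.closure_le _).mpr
      intro y hy
      obtain ⟨a, ha, hconj⟩ := Group.mem_conjugatesOfSet_iff.mp hy
      obtain ⟨g, rfl⟩ := isConj_iff.mp hconj
      have hg : g ∈ H ⊔ N := by rw [hsup]; exact Subgroup.mem_top g
      obtain ⟨h, hh, x, hx, rfl⟩ := Subgroup.mem_sup_of_normal_right.mp hg
      have e : h * x * a * (h * x)⁻¹ = (h * (x * (a * x⁻¹ * a⁻¹)) * h⁻¹) * (h * a * h⁻¹) := by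
        group
      rw [e]
      exact Subgroup.mul_mem _
        (Subgroup.mem_sup_left (hN.conj_mem _ (N.mul_mem hx (hN.conj_mem _ (N.inv_mem hx) a)) h))
        (Subgroup.mem_sup_right (hAH h hh a ha))
    have := hN.commutator_le_of_self_sup_commutative_eq_top hNA hcomm
    rw [hperf] at this
    exact top_le_iff.mp this


open Classical in
/-- A subgroup of finite index is maximal if the sizes `1 + ∑_{i ∈ I} m i` of the unions of its orbits
on its cosets that contain the trivial coset divide the index only for `I = ∅` and `I` everything. -/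
theorem maximal_of_orbits {G : Type*} [Group G] (H : Subgroup G) {k : ℕ} (q : Fin k → G ⧸ H)
    (m : Fin k → ℕ)
    (hm : ∀ i, (MulAction.orbit H (q i)).ncard = m i)
    (hdisj : ∀ i j, i ≠ j → Disjoint (MulAction.orbit H (q i)) (MulAction.orbit H (q j)))
    (h0 : ∀ i, (QuotientGroup.mk 1 : G ⧸ H) ∉ MulAction.orbit H (q i))
    (hsum : 1 + ∑ i, m i = H.index)
    (harith : ∀ I : Finset (Fin k), (1 + ∑ i ∈ I, m i) ∣ H.index → I = ∅ ∨ I = Finset.univ)
    (L : Subgroup G) (hL : H ≤ L) : L = H ∨ L = ⊤ := by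
  have hidx : H.index ≠ 0 := by omega
  have : H.FiniteIndex := ⟨hidx⟩
  have : Finite (G ⧸ H) := Subgroup.finite_quotient_of_finiteIndex
  have : Fintype (G ⧸ H) := Fintype.ofFinite _
  let O : Fin k → Finset (G ⧸ H) := fun i => (MulAction.orbit H (q i)).toFinset
  have hOmem : ∀ i y, y ∈ O i ↔ y ∈ MulAction.orbit H (q i) := fun i y => Set.mem_toFinset
  have hOcard : ∀ i, (O i).card = m i := by
    intro i
    rw [← hm i, Set.ncard_eq_toFinset_card']
  let U : Finset (Fin k) → Finset (G ⧸ H) := fun I => insert (QuotientGroup.mk 1) (I.biUnion O)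
  have hUcard : ∀ I, (U I).card = 1 + ∑ i ∈ I, m i := by
    intro I
    have h1 : (QuotientGroup.mk 1 : G ⧸ H) ∉ I.biUnion O := by
      intro hmem
      obtain ⟨i, _, hi⟩ := Finset.mem_biUnion.mp hmem
      exact h0 i ((hOmem i _).mp hi)
    have h2 : (I.biUnion O).card = ∑ i ∈ I, (O i).card := by
      apply Finset.card_biUnion
      intro i _ j _ hij
      show Disjoint (O i) (O j)
      rw [Finset.disjoint_left]
      intro y hy hy'
      exact Set.disjoint_left.mp (hdisj i j hij) ((hOmem i y).mp hy) ((hOmem j y).mp hy')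
    show (insert (QuotientGroup.mk 1) (I.biUnion O)).card = _
    rw [Finset.card_insert_of_notMem h1, h2, add_comm]
    congr 1
    exact Finset.sum_congr rfl (fun i _ => hOcard i)
  have hUuniv : U Finset.univ = Finset.univ := by
    apply Finset.eq_univ_of_card
    rw [hUcard, hsum, Subgroup.index, Nat.card_eq_fintype_card]
  -- the orbit of the trivial coset under `L`
  have hstab : MulAction.stabilizer L (QuotientGroup.mk 1 : G ⧸ H) = H.subgroupOf L := by
    ext ⟨l, hl⟩
    rw [MulAction.mem_stabilizer_iff, Subgroup.mem_subgroupOf]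
    show (l • (QuotientGroup.mk 1 : G ⧸ H)) = QuotientGroup.mk 1 ↔ l ∈ H
    rw [MulAction.Quotient.smul_mk, smul_eq_mul, mul_one, QuotientGroup.eq, mul_one, inv_mem_iff]
  have hBcard : (MulAction.orbit L (QuotientGroup.mk 1 : G ⧸ H)).ncard = H.relIndex L := by
    rw [← MulAction.index_stabilizer, hstab]
    rfl
  have hBdvd : (MulAction.orbit L (QuotientGroup.mk 1 : G ⧸ H)).ncard ∣ H.index := by
    rw [hBcard]
    exact Dvd.intro _ (Subgroup.relIndex_mul_index hL)
  have hBmem : ∀ y : G ⧸ H, y ∈ MulAction.orbit L (QuotientGroup.mk 1 : G ⧸ H) ↔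
      ∃ l ∈ L, y = QuotientGroup.mk l := by
    intro y
    constructor
    · rintro ⟨⟨l, hl⟩, rfl⟩
      refine ⟨l, hl, ?_⟩
      show (l • (QuotientGroup.mk 1 : G ⧸ H)) = _
      rw [MulAction.Quotient.smul_mk, smul_eq_mul, mul_one]
    · rintro ⟨l, hl, rfl⟩
      refine ⟨⟨l, hl⟩, ?_⟩
      show (l • (QuotientGroup.mk 1 : G ⧸ H)) = _
      rw [MulAction.Quotient.smul_mk, smul_eq_mul, mul_one]
  -- invariance under `H`
  have hBinv : ∀ (h : G), h ∈ H → ∀ y : G ⧸ H, y ∈ MulAction.orbit L (QuotientGroup.mk 1 : G ⧸ H) →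
      h • y ∈ MulAction.orbit L (QuotientGroup.mk 1 : G ⧸ H) := by
    intro h hh y hy
    obtain ⟨l, hl, rfl⟩ := (hBmem y).mp hy
    rw [hBmem]
    exact ⟨h * l, L.mul_mem (hL hh) hl, by rw [MulAction.Quotient.smul_mk, smul_eq_mul]⟩
  let I : Finset (Fin k) := Finset.univ.filter
    (fun i => q i ∈ MulAction.orbit L (QuotientGroup.mk 1 : G ⧸ H))
  have hBU : (MulAction.orbit L (QuotientGroup.mk 1 : G ⧸ H)).toFinset = U I := by
    ext y
    rw [Set.mem_toFinset]
    show _ ↔ y ∈ insert (QuotientGroup.mk 1) (I.biUnion O)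
    rw [Finset.mem_insert, Finset.mem_biUnion]
    constructor
    · intro hy
      have hyU : y ∈ U Finset.univ := by rw [hUuniv]; exact Finset.mem_univ y
      rcases Finset.mem_insert.mp hyU with h | h
      · exact Or.inl h
      · right
        obtain ⟨i, _, hi⟩ := Finset.mem_biUnion.mp h
        refine ⟨i, ?_, hi⟩
        rw [Finset.mem_filter]
        refine ⟨Finset.mem_univ i, ?_⟩
        -- q i = h⁻¹ • y
        obtain ⟨⟨h', hh'⟩, rfl⟩ := (hOmem i y).mp hi
        have := hBinv h'⁻¹ (H.inv_mem hh') _ hy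
        have e : h'⁻¹ • ((⟨h', hh'⟩ : H) • q i) = q i := by
          show h'⁻¹ • (h' • q i) = q i
          rw [inv_smul_smul]
        rwa [e] at this
    · rintro (h | ⟨i, hi, hy⟩)
      · rw [h]; exact MulAction.mem_orbit_self _
      · obtain ⟨⟨h', hh'⟩, rfl⟩ := (hOmem i y).mp hy
        exact hBinv h' hh' _ (Finset.mem_filter.mp hi).2
  have hcardB : (MulAction.orbit L (QuotientGroup.mk 1 : G ⧸ H)).ncard = 1 + ∑ i ∈ I, m i := by
    rw [Set.ncard_eq_toFinset_card', hBU, hUcard]
  rw [hcardB] at hBdvd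
  rcases harith I hBdvd with hI | hI
  · left
    apply le_antisymm _ hL
    intro l hl
    have h1 : (QuotientGroup.mk l : G ⧸ H) ∈ (MulAction.orbit L (QuotientGroup.mk 1 : G ⧸ H)).toFinset := by
      rw [Set.mem_toFinset, hBmem]; exact ⟨l, hl, rfl⟩
    rw [hBU, hI] at h1
    have h2 : (QuotientGroup.mk l : G ⧸ H) = QuotientGroup.mk 1 := by
      simpa [U] using h1
    have h3 := QuotientGroup.eq.mp h2
    rw [mul_one] at h3
    exact (H.inv_mem_iff).mp h3
  · right
    rw [eq_top_iff]
    intro g _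
    have h1 : (QuotientGroup.mk g : G ⧸ H) ∈ (MulAction.orbit L (QuotientGroup.mk 1 : G ⧸ H)).toFinset := by
      rw [hBU, hI, hUuniv]; exact Finset.mem_univ _
    rw [Set.mem_toFinset, hBmem] at h1
    obtain ⟨l, hl, e⟩ := h1
    have h3 := QuotientGroup.eq.mp e
    -- g⁻¹ * l ∈ H
    have h4 : g⁻¹ * l ∈ L := hL h3
    have : g = l * (g⁻¹ * l)⁻¹ := by group
    rw [this]
    exact L.mul_mem hl (L.inv_mem h4)


/-- Orbits of different sizes are disjoint. -/
theorem orbit_disjoint_of_ncard_ne {K X : Type*} [Group K] [MulAction K X] (x y : X)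
    (h : (MulAction.orbit K x).ncard ≠ (MulAction.orbit K y).ncard) :
    Disjoint (MulAction.orbit K x) (MulAction.orbit K y) := by
  rcases MulAction.orbit.eq_or_disjoint (G := K) x y with e | e
  · exact absurd (by rw [e]) h
  · exact e

/-- The trivial coset is not in an orbit of `H` with more than one point. -/
theorem mk_one_notMem_orbit {G : Type*} [Group G] (H : Subgroup G) (q : G ⧸ H)
    (h : 1 < (MulAction.orbit H q).ncard) : (QuotientGroup.mk 1 : G ⧸ H) ∉ MulAction.orbit H q := by
  intro hmem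
  have e : MulAction.orbit H q = MulAction.orbit H (QuotientGroup.mk 1 : G ⧸ H) :=
    (MulAction.orbit_eq_iff.mpr hmem).symm
  have e2 : MulAction.orbit H (QuotientGroup.mk 1 : G ⧸ H) = {QuotientGroup.mk 1} := by
    ext y
    constructor
    · rintro ⟨⟨h', hh'⟩, rfl⟩
      show (h' • (QuotientGroup.mk 1 : G ⧸ H)) = QuotientGroup.mk 1
      rw [MulAction.Quotient.smul_mk, smul_eq_mul, mul_one, QuotientGroup.eq, mul_one, inv_mem_iff]
      exact hh'
    · intro hy
      rw [Set.mem_singleton_iff.mp hy]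
      exact MulAction.mem_orbit_self _
  rw [e, e2, Set.ncard_singleton] at h
  exact absurd h (lt_irrefl 1)

end Cfsg.Agent.Helper28
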