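import Mathlib
import Cfsg.Agent.Helper28.TCD
import Cfsg.Agent.Helper28.GnP

/-!
# Todd–Coxeter certificates with inverse columns: packed data and chunked checks (helper28)
-/

set_option autoImplicit false

namespace Cfsg.Agent.Helper28.Gn

/-- certificate data from packed columns -/
noncomputable def mkData (sk mk bt mt B mB BJ mBJ BT mBT : ℕ) (cols jcols : List (List ℕ))
    (tcol : List ℕ) (rels : List (List ℕ)) (nrel jc N W fuel : ℕ) (ivl : List ℕ) : TCData where
  E := fun c u => bent sk mk B mB (nthL cols c) u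
  tg := fun e => Nat.land e mt
  om := fun e => Nat.shiftRight e bt
  J := fun c u => bent sk mk BJ mBJ (nthL jcols c) u
  jk := fun j => Nat.land j 1
  jf := fun j => Nat.land (Nat.shiftRight j 1) 1
  js := fun j => Nat.land (Nat.shiftRight j 2) mt
  jr := fun j => Nat.land (Nat.shiftRight j (Nat.add bt 2)) 127
  jo := fun j => Nat.land (Nat.shiftRight j (Nat.add bt 9)) 127
  jg := fun j => Nat.shiftRight j (Nat.add bt 16)
  tE := fun c => bent sk mk BT mBT tcol c
  th := fun e => Nat.shiftRight e (Nat.add bt 4)
  tp := fun e => Nat.land e mt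
  tc := fun e => Nat.land (Nat.shiftRight e bt) 15
  rels := rels
  nrel := nrel
  jc := jc
  N := N
  W := W
  fuel := fuel
  iv := fun a => nthN ivl a

/-- the check of all entries at the name `x` -/
noncomputable def rowChk (D : TCData) (x : ℕ) : Bool :=
  and (allBelow D.jc (fun a => chkG D a x)) (chkJ D x)

theorem rows_ok (D : TCData) (h : ∀ x, x < D.N → rowChk D x = true) :
    (∀ a, a < D.jc → ∀ x, x < D.N → chkG D a x = true) ∧ (∀ x, x < D.N → chkJ D x = true) := by
  constructor
  · intro a ha x hx
    have := h x hx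
    unfold rowChk at this
    rw [Bool.and_eq_true] at this
    exact (allBelow_iff _ _).mp this.1 a ha
  · intro x hx
    have := h x hx
    unfold rowChk at this
    rw [Bool.and_eq_true] at this
    exact this.2

/-- the undefined entries at the name `N` -/
noncomputable def padChk (D : TCData) : Bool :=
  allBelow (Nat.add D.jc 1) (fun c => Nat.beq (D.om (D.E c D.N)) 0)

theorem pad_ok (D : TCData) (h : padChk D = true) : ∀ c, c ≤ D.jc → D.om (D.E c D.N) = 0 := by
  intro c hc
  exact Nat.eq_of_beq_eq_true ((allBelow_iff _ _).mp h c (Nat.lt_succ_of_le hc))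

/-- the final check at the final coset `i`: table entries, and the tree edge -/
noncomputable def finPt (D : TCData) (n : ℕ) (lv : ℕ → ℕ) (T : ℕ → ℕ → ℕ) (ftp ftc : ℕ → ℕ) (i : ℕ) : Bool :=
  and (allBelow D.jc (fun k => and (chkFin D lv T k i) (Nat.blt (T k i) n)))
    (cond (Nat.beq i 0) true
      (and (Nat.blt (ftc i) D.jc) (and (Nat.blt (ftp i) i) (Nat.beq (T (ftc i) (ftp i)) i))))

theorem finSem_of (D : TCData) (n : ℕ) (lv : ℕ → ℕ) (T : ℕ → ℕ → ℕ) (ftp ftc : ℕ → ℕ)
    (h : ∀ i, i < n → finPt D n lv T ftp ftc i = true) (h0 : lv 0 = 0) : FinSem D n lv T where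
  hfin := by
    intro k hk i hi
    have := h i hi
    unfold finPt at this
    rw [Bool.and_eq_true] at this
    have h2 := (allBelow_iff _ _).mp this.1 k hk
    rw [Bool.and_eq_true] at h2
    exact h2.1
  hT := by
    intro k hk i hi
    have := h i hi
    unfold finPt at this
    rw [Bool.and_eq_true] at this
    have h2 := (allBelow_iff _ _).mp this.1 k hk
    rw [Bool.and_eq_true] at h2
    exact Nat.blt_eq.mp h2.2
  hlv0 := h0
  htree := by
    intro i h0' hi
    have := h i hi
    unfold finPt at this
    rw [Bool.and_eq_true] at this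
    have h2 := this.2
    have hb : Nat.beq i 0 = false := by
      cases hb : Nat.beq i 0 with
      | false => rfl
      | true => exact absurd (Nat.eq_of_beq_eq_true hb) (Nat.pos_iff_ne_zero.mp h0')
    rw [hb] at h2
    simp only [cond_false, Bool.and_eq_true] at h2
    exact ⟨ftc i, Nat.blt_eq.mp h2.1, ftp i, Nat.blt_eq.mp h2.2.1, Nat.eq_of_beq_eq_true h2.2.2⟩

end Cfsg.Agent.Helper28.Gn
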