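import Mathlib
import Cfsg.Agent.Helper28.TCD

/-!
# Orbits of the subgroup on its cosets, from the final table (helper28)
-/

set_option autoImplicit false

namespace Cfsg.Agent.Helper28

theorem perm_maps_inv {n : ℕ} (p : Equiv.Perm (Fin n)) (O : Finset (Fin n))
    (h : ∀ i ∈ O, p i ∈ O) : ∀ i ∈ O, p⁻¹ i ∈ O := by
  have himg : O.image p = O := by
    apply Finset.eq_of_subset_of_card_le
    · intro i hi
      obtain ⟨j, hj, rfl⟩ := Finset.mem_image.mp hi
      exact h j hj
    · rw [Finset.card_image_of_injective _ p.injective]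
  intro i hi
  rw [← himg] at hi
  obtain ⟨j, hj, rfl⟩ := Finset.mem_image.mp hi
  simpa using hj

theorem orbit_mem_iff {G : Type*} [Group G] (H : Subgroup G) {n : ℕ} (φ : G →* Equiv.Perm (Fin n))
    (e : G ⧸ H ≃ Fin n) (he : ∀ (x : G) (q : G ⧸ H), e (x • q) = φ x (e q))
    (O : Finset (Fin n)) (i0 : Fin n)
    (gs : Set G) (hgs : Subgroup.closure gs = H)
    (hclosed : ∀ s ∈ gs, ∀ i ∈ O, φ s i ∈ O)
    (hreach : ∀ i ∈ O, ∃ h ∈ H, φ h i0 = i) (hi0 : i0 ∈ O) (q : G ⧸ H) :
    q ∈ MulAction.orbit H (e.symm i0) ↔ e q ∈ O := by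
  have key : ∀ h ∈ H, (∀ i ∈ O, φ h i ∈ O) ∧ (∀ i ∈ O, φ h⁻¹ i ∈ O) := by
    intro h hh
    rw [← hgs] at hh
    induction hh using Subgroup.closure_induction with
    | mem s hs =>
      refine ⟨hclosed s hs, ?_⟩
      rw [map_inv]
      exact perm_maps_inv _ O (hclosed s hs)
    | one =>
      refine ⟨fun i hi => by rw [map_one]; exact hi, fun i hi => by rw [inv_one, map_one]; exact hi⟩
    | mul x y _ _ ihx ihy =>
      refine ⟨fun i hi => ?_, fun i hi => ?_⟩
      · rw [map_mul, Equiv.Perm.mul_apply]; exact ihx.1 _ (ihy.1 i hi)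
      · rw [mul_inv_rev, map_mul, Equiv.Perm.mul_apply]; exact ihy.2 _ (ihx.2 i hi)
    | inv x _ ih => exact ⟨ih.2, by rw [inv_inv]; exact ih.1⟩
  constructor
  · intro hq
    obtain ⟨h, rfl⟩ := MulAction.mem_orbit_iff.mp hq
    have : e (h • e.symm i0) = φ (h : G) i0 := by
      have e0 : h • e.symm i0 = (h : G) • e.symm i0 := rfl
      rw [e0, he, Equiv.apply_symm_apply]
    rw [this]
    exact (key h h.2).1 i0 hi0
  · intro hq
    obtain ⟨h, hh, e1⟩ := hreach _ hq
    apply MulAction.mem_orbit_iff.mpr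
    refine ⟨⟨h, hh⟩, ?_⟩
    apply e.injective
    have e0 : (⟨h, hh⟩ : H) • e.symm i0 = h • e.symm i0 := rfl
    rw [e0, he, Equiv.apply_symm_apply]
    exact e1

theorem orbit_ncard_eq {G : Type*} [Group G] (H : Subgroup G) {n : ℕ}
    (e : G ⧸ H ≃ Fin n) (O : Finset (Fin n)) (q0 : G ⧸ H)
    (h : ∀ q : G ⧸ H, q ∈ MulAction.orbit H q0 ↔ e q ∈ O) :
    (MulAction.orbit H q0).ncard = O.card := by
  have : MulAction.orbit H q0 = e.symm '' (O : Set (Fin n)) := by
    ext q
    rw [h q]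
    constructor
    · intro hq; exact ⟨e q, hq, e.symm_apply_apply q⟩
    · rintro ⟨i, hi, rfl⟩; rw [Equiv.apply_symm_apply]; exact hi
  rw [this, Set.ncard_image_of_injective _ e.symm.injective, Set.ncard_coe_finset]

/-- check at the position `t` of an orbit list: the point is in range, the position table inverts the list,
the orbit is closed under the subgroup words, and the point is reached from an earlier one -/
noncomputable def orbPt (T : ℕ → ℕ → ℕ) (n : ℕ) (subL : List (List ℕ)) (m : ℕ) (ov op otp otw : ℕ → ℕ)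
    (t : ℕ) : Bool :=
  and (Nat.blt (ov t) n) (and (Nat.beq (op (ov t)) t)
    (and (listAll subL (fun l => and (Nat.blt (op (walkA T l (ov t))) m)
        (Nat.beq (ov (op (walkA T l (ov t)))) (walkA T l (ov t)))))
      (cond (Nat.beq t 0) true
        (and (Nat.blt (otp t) t) (Nat.beq (walkA T (nthL subL (otw t)) (ov (otp t))) (ov t))))))

/-- the orbit as a finite set -/
noncomputable def orbSet (n m : ℕ) (ov op : ℕ → ℕ) : Finset (Fin n) :=
  Finset.univ.filter (fun i : Fin n => op i < m ∧ ov (op i) = i)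

theorem orbSet_card (n m : ℕ) (ov op : ℕ → ℕ)
    (h : ∀ t, t < m → ov t < n ∧ op (ov t) = t) : (orbSet n m ov op).card = m := by
  have : orbSet n m ov op = (Finset.univ : Finset (Fin m)).image
      (fun t : Fin m => (⟨ov t, (h t t.2).1⟩ : Fin n)) := by
    ext i
    simp only [orbSet, Finset.mem_filter, Finset.mem_univ, true_and, Finset.mem_image]
    constructor
    · rintro ⟨h1, h2⟩
      exact ⟨⟨op i, h1⟩, Fin.ext h2⟩
    · rintro ⟨t, rfl⟩
      simp only
      rw [(h t t.2).2]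
      exact ⟨t.2, rfl⟩
  rw [this, Finset.card_image_of_injective, Finset.card_univ, Fintype.card_fin]
  intro t t' htt
  have e1 : ov t = ov t' := congrArg Fin.val htt
  apply Fin.ext
  rw [← (h t t.2).2, ← (h t' t'.2).2, e1]

section

variable {α : Type} [DecidableEq α] {edges : List (α × ℕ × α)} {extra : List (FreeGroup α)}
  {S : Set (FreeGroup α)} {gen : ℕ → α} {code : α → ℕ} {D : TCData} {n : ℕ}
  {lv : ℕ → ℕ} {T : ℕ → ℕ → ℕ} {pairs : List (ℕ × ℕ × ℕ)} {extraL subL : List (List ℕ)}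
  (C : CoxCert edges extra S gen code D n lv T pairs extraL subL)
include C

/-- An orbit list certifies an orbit of the subgroup on its cosets. -/
theorem CoxCert.orbit_cert
    (e : (Cfsg.Spor.CoxPresented α edges extra) ⧸ ((Subgroup.closure S).map
        (PresentedGroup.mk (Cfsg.Spor.coxRelators edges ∪ {r | r ∈ extra}))) ≃ Fin n)
    (he : ∀ (x : Cfsg.Spor.CoxPresented α edges extra) q, e (x • q) = C.perm x (e q))
    (m : ℕ) (ov op otp otw : ℕ → ℕ) (hm : 0 < m)
    (hO : ∀ t, t < m → orbPt T n subL m ov op otp otw t = true) (h0 : ov 0 < n) :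
    (MulAction.orbit ((Subgroup.closure S).map
        (PresentedGroup.mk (Cfsg.Spor.coxRelators edges ∪ {r | r ∈ extra}))) (e.symm ⟨ov 0, h0⟩)).ncard = m ∧
      ∀ q, q ∈ MulAction.orbit ((Subgroup.closure S).map
        (PresentedGroup.mk (Cfsg.Spor.coxRelators edges ∪ {r | r ∈ extra}))) (e.symm ⟨ov 0, h0⟩) ↔
          (op (e q) < m ∧ ov (op (e q)) = e q) := by
  -- unpack the checks
  have h1 : ∀ t, t < m → ov t < n ∧ op (ov t) = t := by
    intro t ht
    have := hO t ht
    unfold orbPt at this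
    simp only [Bool.and_eq_true] at this
    exact ⟨Nat.blt_eq.mp this.1, Nat.eq_of_beq_eq_true this.2.1⟩
  have h2 : ∀ t, t < m → ∀ l ∈ subL, op (walkA T l (ov t)) < m ∧ ov (op (walkA T l (ov t))) = walkA T l (ov t) := by
    intro t ht l hl
    have := hO t ht
    unfold orbPt at this
    simp only [Bool.and_eq_true] at this
    have h3 := (listAll_iff _ _).mp this.2.2.1 l hl
    rw [Bool.and_eq_true] at h3
    exact ⟨Nat.blt_eq.mp h3.1, Nat.eq_of_beq_eq_true h3.2⟩
  have h3 : ∀ t, 0 < t → t < m → otp t < t ∧ walkA T (nthL subL (otw t)) (ov (otp t)) = ov t := by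
    intro t ht0 ht
    have := hO t ht
    unfold orbPt at this
    simp only [Bool.and_eq_true] at this
    have h4 := this.2.2.2
    have hb : Nat.beq t 0 = false := by
      cases hb : Nat.beq t 0 with
      | false => rfl
      | true => exact absurd (Nat.eq_of_beq_eq_true hb) (Nat.pos_iff_ne_zero.mp ht0)
    rw [hb] at h4
    simp only [cond_false, Bool.and_eq_true] at h4
    exact ⟨Nat.blt_eq.mp h4.1, Nat.eq_of_beq_eq_true h4.2⟩
  have hmemO : ∀ i : Fin n, i ∈ orbSet n m ov op ↔ (op i < m ∧ ov (op i) = i) := by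
    intro i; simp [orbSet]
  have hgs : Subgroup.closure ((PresentedGroup.mk (Cfsg.Spor.coxRelators edges ∪ {r | r ∈ extra})) '' S) =
      (Subgroup.closure S).map (PresentedGroup.mk (Cfsg.Spor.coxRelators edges ∪ {r | r ∈ extra})) :=
    (MonoidHom.map_closure _ _).symm
  have hclosed : ∀ s ∈ (PresentedGroup.mk (Cfsg.Spor.coxRelators edges ∪ {r | r ∈ extra})) '' S,
      ∀ i ∈ orbSet n m ov op, C.perm s i ∈ orbSet n m ov op := by
    rintro _ ⟨s, hs, rfl⟩ i hi
    obtain ⟨l, hl, hw⟩ := C.hsub2 s hs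
    rw [hmemO] at hi ⊢
    rw [C.perm_word s l hw (C.hletS l hl) i, ← hi.2]
    exact h2 _ hi.1 l hl
  have hreach : ∀ t, t < m → ∃ h ∈ (Subgroup.closure S).map
      (PresentedGroup.mk (Cfsg.Spor.coxRelators edges ∪ {r | r ∈ extra})),
      ((C.perm h ⟨ov 0, h0⟩ : Fin n) : ℕ) = ov t := by
    intro t
    induction t using Nat.strong_induction_on with
    | _ t ih =>
      intro ht
      rcases Nat.eq_zero_or_pos t with ht0 | ht0
      · subst ht0
        exact ⟨1, Subgroup.one_mem _, by rw [map_one]; rfl⟩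
      · obtain ⟨hp, hwalk⟩ := h3 t ht0 ht
        obtain ⟨h, hh, eh⟩ := ih _ hp (lt_trans hp ht)
        rcases nthL_mem_or subL (otw t) with hnil | hmem
        · rw [hnil, walkA_nil] at hwalk
          exact ⟨h, hh, by rw [eh, hwalk]⟩
        · obtain ⟨s, hs, hw⟩ := C.hsub1 _ hmem
          refine ⟨PresentedGroup.mk _ s * h,
            Subgroup.mul_mem _ (Subgroup.mem_map_of_mem _ (Subgroup.subset_closure hs)) hh, ?_⟩
          rw [map_mul, Equiv.Perm.mul_apply, C.perm_word s _ hw (C.hletS _ hmem), eh, hwalk]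
  have hreach' : ∀ i ∈ orbSet n m ov op, ∃ h ∈ (Subgroup.closure S).map
      (PresentedGroup.mk (Cfsg.Spor.coxRelators edges ∪ {r | r ∈ extra})), C.perm h ⟨ov 0, h0⟩ = i := by
    intro i hi
    rw [hmemO] at hi
    obtain ⟨h, hh, eh⟩ := hreach _ hi.1
    exact ⟨h, hh, Fin.ext (by rw [eh, hi.2])⟩
  have hi0 : (⟨ov 0, h0⟩ : Fin n) ∈ orbSet n m ov op := by
    rw [hmemO]
    show op (ov 0) < m ∧ ov (op (ov 0)) = ov 0
    rw [(h1 0 hm).2]
    exact ⟨hm, rfl⟩
  have hiff := orbit_mem_iff _ C.perm e he (orbSet n m ov op) ⟨ov 0, h0⟩ _ hgs hclosed hreach' hi0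
  refine ⟨?_, fun q => ?_⟩
  · rw [orbit_ncard_eq _ e (orbSet n m ov op) _ hiff, orbSet_card n m ov op h1]
  · rw [hiff q, hmemO]

end

end Cfsg.Agent.Helper28
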