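import Mathlib
import Cfsg.Agent.Helper28.TCO
import Cfsg.Agent.Helper28.Grp

/-!
# Lower bounds for the order from a coset table: stabiliser chains with words (helper28)
-/

set_option autoImplicit false

namespace Cfsg.Agent.Helper28

/-- the subgroup fixing the points of a list (points given as numbers) -/
def fixSub {G : Type*} [Group G] {n : ℕ} (φ : G →* Equiv.Perm (Fin n)) (bs : List ℕ) : Subgroup G where
  carrier := {x | ∀ b ∈ bs, ∀ i : Fin n, (i : ℕ) = b → φ x i = i}
  one_mem' := by
    intro b _ i _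
    rw [map_one]; rfl
  mul_mem' := by
    intro x y hx hy b hb i hi
    rw [map_mul, Equiv.Perm.mul_apply, hy b hb i hi, hx b hb i hi]
  inv_mem' := by
    intro x hx b hb i hi
    rw [map_inv, Equiv.Perm.inv_eq_iff_eq]
    exact (hx b hb i hi).symm

theorem mem_fixSub {G : Type*} [Group G] {n : ℕ} (φ : G →* Equiv.Perm (Fin n)) (bs : List ℕ) (x : G) :
    x ∈ fixSub φ bs ↔ ∀ b ∈ bs, ∀ i : Fin n, (i : ℕ) = b → φ x i = i := Iff.rfl

theorem fixSub_cons_le {G : Type*} [Group G] {n : ℕ} (φ : G →* Equiv.Perm (Fin n)) (b : ℕ)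
    (bs : List ℕ) : fixSub φ (b :: bs) ≤ fixSub φ bs := by
  intro x hx c hc i hi
  exact hx c (List.mem_cons_of_mem _ hc) i hi

theorem fixSub_nil {G : Type*} [Group G] {n : ℕ} (φ : G →* Equiv.Perm (Fin n)) :
    fixSub φ [] = ⊤ := by
  rw [eq_top_iff]
  intro x _ b hb
  exact absurd hb (by simp)

theorem ker_le_fixSub {G : Type*} [Group G] {n : ℕ} (φ : G →* Equiv.Perm (Fin n)) (bs : List ℕ) :
    φ.ker ≤ fixSub φ bs := by
  intro x hx b _ i _
  rw [MonoidHom.mem_ker.mp hx]; rfl

/-- check at the position `t` of an orbit list: the point is in range, the position table inverts the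
list, and the point is reached from an earlier one by a word of `W` -/
noncomputable def lbPt (T : ℕ → ℕ → ℕ) (n : ℕ) (W : List (List ℕ)) (ov op otp otw : ℕ → ℕ) (t : ℕ) :
    Bool :=
  and (Nat.blt (ov t) n) (and (Nat.beq (op (ov t)) t)
    (cond (Nat.beq t 0) true
      (and (Nat.blt (otp t) t) (Nat.beq (walkA T (nthL W (otw t)) (ov (otp t))) (ov t)))))

/-- the words of `W` have letters below `jc` and fix the points of `bs` -/
noncomputable def fixChk (T : ℕ → ℕ → ℕ) (jc : ℕ) (W : List (List ℕ)) (bs : List ℕ) : Bool :=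
  listAll W (fun l => and (listAll l (fun a => Nat.blt a jc))
    (listAll bs (fun b => Nat.beq (walkA T l b) b)))

/-- two words have the same image at the point `i` -/
noncomputable def eqPt (T : ℕ → ℕ → ℕ) (l1 l2 : List ℕ) (i : ℕ) : Bool :=
  Nat.beq (walkA T l1 i) (walkA T l2 i)

/-- chaining two level bounds -/
theorem chain_mul {a b c d e : ℕ} (h1 : a * b ≤ c) (h2 : d * e ≤ b) : (a * d) * e ≤ c := by
  rw [Nat.mul_assoc]
  exact le_trans (Nat.mul_le_mul_left _ h2) h1

theorem eq_ok (T : ℕ → ℕ → ℕ) (l1 l2 : List ℕ) (n : ℕ) (h : ∀ i, i < n → eqPt T l1 l2 i = true) :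
    ∀ i, i < n → eqPt T l1 l2 i = true := h

section

variable {α : Type} [DecidableEq α] {edges : List (α × ℕ × α)} {extra : List (FreeGroup α)}
  {S : Set (FreeGroup α)} {gen : ℕ → α} {code : α → ℕ} {D : TCData} {n : ℕ}
  {lv : ℕ → ℕ} {T : ℕ → ℕ → ℕ} {pairs : List (ℕ × ℕ × ℕ)} {extraL subL : List (List ℕ)}
  (C : CoxCert edges extra S gen code D n lv T pairs extraL subL)
include C

/-- the permutation of a word in the generators -/
theorem CoxCert.perm_list (l : List ℕ) (hl : ∀ a ∈ l, a < D.jc) (i : Fin n) :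
    ((C.perm ((l.map (coxVal edges extra gen D.jc)).prod) i : Fin n) : ℕ) = walkA T l i := by
  induction l with
  | nil => rw [List.map_nil, List.prod_nil, map_one, walkA_nil]; rfl
  | cons a l ih =>
    rw [List.map_cons, List.prod_cons, map_mul, Equiv.Perm.mul_apply,
      C.perm_val a (hl a List.mem_cons_self), walkA_cons,
      ih (fun b hb => hl b (List.mem_cons_of_mem _ hb))]

/-- One level of a stabiliser chain: an orbit of `m` points of the subgroup fixing `bs`. -/
theorem CoxCert.lb_level [Finite (Cfsg.Spor.CoxPresented α edges extra)] (bs : List ℕ)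
    (W : List (List ℕ)) (m : ℕ) (ov op otp otw : ℕ → ℕ)
    (hW : fixChk T D.jc W bs = true)
    (hO : ∀ t, t < m → lbPt T n W ov op otp otw t = true) :
    m * Nat.card (fixSub C.perm (ov 0 :: bs)) ≤ Nat.card (fixSub C.perm bs) := by
  rcases Nat.eq_zero_or_pos m with hm0 | hm0
  · rw [hm0, Nat.zero_mul]; exact Nat.zero_le _
  -- unpack the checks
  have h1 : ∀ t, t < m → ov t < n ∧ op (ov t) = t := by
    intro t ht
    have := hO t ht
    unfold lbPt at this
    simp only [Bool.and_eq_true] at this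
    exact ⟨Nat.blt_eq.mp this.1, Nat.eq_of_beq_eq_true this.2.1⟩
  have h3 : ∀ t, 0 < t → t < m → otp t < t ∧ walkA T (nthL W (otw t)) (ov (otp t)) = ov t := by
    intro t ht0 ht
    have := hO t ht
    unfold lbPt at this
    simp only [Bool.and_eq_true] at this
    have h4 := this.2.2
    have hb : Nat.beq t 0 = false := by
      cases hb : Nat.beq t 0 with
      | false => rfl
      | true => exact absurd (Nat.eq_of_beq_eq_true hb) (Nat.pos_iff_ne_zero.mp ht0)
    rw [hb] at h4
    simp only [cond_false, Bool.and_eq_true] at h4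
    exact ⟨Nat.blt_eq.mp h4.1, Nat.eq_of_beq_eq_true h4.2⟩
  have hWl : ∀ l ∈ W, (∀ a ∈ l, a < D.jc) ∧ ∀ b ∈ bs, walkA T l b = b := by
    intro l hl
    have := (listAll_iff _ _).mp hW l hl
    rw [Bool.and_eq_true] at this
    exact ⟨fun a ha => Nat.blt_eq.mp ((listAll_iff _ _).mp this.1 a ha),
      fun b hb => Nat.eq_of_beq_eq_true ((listAll_iff _ _).mp this.2 b hb)⟩
  have hWmem : ∀ l ∈ W, (l.map (coxVal edges extra gen D.jc)).prod ∈ fixSub C.perm bs := by
    intro l hl b hb i hi
    apply Fin.ext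
    rw [C.perm_list l (hWl l hl).1 i, hi, (hWl l hl).2 b hb]
  have hβ : ov 0 < n := (h1 0 hm0).1
  -- elements reaching the orbit points
  have hreach : ∀ t, t < m → ∃ x ∈ fixSub C.perm bs,
      ((C.perm x ⟨ov 0, hβ⟩ : Fin n) : ℕ) = ov t := by
    intro t
    induction t using Nat.strong_induction_on with
    | _ t ih =>
      intro ht
      rcases Nat.eq_zero_or_pos t with ht0 | ht0
      · subst ht0
        exact ⟨1, Subgroup.one_mem _, by rw [map_one]; rfl⟩
      · obtain ⟨hp, hwalk⟩ := h3 t ht0 ht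
        obtain ⟨x, hx, ex⟩ := ih _ hp (lt_trans hp ht)
        rcases nthL_mem_or W (otw t) with hnil | hmem
        · rw [hnil, walkA_nil] at hwalk
          exact ⟨x, hx, by rw [ex, hwalk]⟩
        · refine ⟨(((nthL W (otw t)).map (coxVal edges extra gen D.jc)).prod) * x,
            Subgroup.mul_mem _ (hWmem _ hmem) hx, ?_⟩
          rw [map_mul, Equiv.Perm.mul_apply, C.perm_list _ (hWl _ hmem).1, ex, hwalk]
  let r : ℕ → Cfsg.Spor.CoxPresented α edges extra := fun t =>
    if ht : t < m then Classical.choose (hreach t ht) else 1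
  have hr1 : ∀ t (ht : t < m), r t ∈ fixSub C.perm bs ∧
      ((C.perm (r t) ⟨ov 0, hβ⟩ : Fin n) : ℕ) = ov t := by
    intro t ht
    have e : r t = Classical.choose (hreach t ht) := dif_pos ht
    rw [e]
    exact Classical.choose_spec (hreach t ht)
  apply lb_step (fixSub C.perm bs) (fixSub C.perm (ov 0 :: bs)) m r
    (fun t ht => (hr1 t ht).1) (fixSub_cons_le _ _ _)
  intro s t hs ht hmem
  have h5 := hmem (ov 0) List.mem_cons_self ⟨ov 0, hβ⟩ rfl
  rw [map_mul, map_inv, Equiv.Perm.mul_apply, Equiv.Perm.inv_eq_iff_eq] at h5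
  have h6 : ov t = ov s := by
    rw [← (hr1 t ht).2, ← (hr1 s hs).2, h5]
  rw [← (h1 s hs).2, ← (h1 t ht).2, h6]

/-- The top level: all `n` points are in the orbit of the point `0`. -/
theorem CoxCert.lb_top [Finite (Cfsg.Spor.CoxPresented α edges extra)] :
    n * Nat.card (fixSub C.perm [0]) ≤ Nat.card (Cfsg.Spor.CoxPresented α edges extra) := by
  obtain ⟨e, he, he1⟩ := C.exists_equiv
  have hle : fixSub C.perm [0] ≤ (Subgroup.closure S).map
      (PresentedGroup.mk (Cfsg.Spor.coxRelators edges ∪ {r | r ∈ extra})) := by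
    intro x hx
    have h1 := hx 0 List.mem_cons_self ⟨0, C.hn⟩ rfl
    have h2 : e (x • (QuotientGroup.mk 1)) = e (QuotientGroup.mk 1) := by
      rw [he, he1, h1]
    have h3 := e.injective h2
    rw [MulAction.Quotient.smul_mk, smul_eq_mul, mul_one, QuotientGroup.eq, mul_one] at h3
    exact (Subgroup.inv_mem_iff _).mp h3
  have h4 := Subgroup.card_le_of_le hle
  have h5 := ((Subgroup.closure S).map
      (PresentedGroup.mk (Cfsg.Spor.coxRelators edges ∪ {r | r ∈ extra}))).card_mul_index
  rw [C.index_eq] at h5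
  rw [← h5, Nat.mul_comm]
  exact Nat.mul_le_mul_right _ h4

/-- If the pointwise stabiliser of some points is trivial, the permutation representation is faithful. -/
theorem CoxCert.perm_injective [Finite (Cfsg.Spor.CoxPresented α edges extra)] (bs : List ℕ)
    (h : Nat.card (fixSub C.perm bs) ≤ 1) : Function.Injective C.perm := by
  rw [← MonoidHom.ker_eq_bot_iff, eq_bot_iff]
  have h1 : fixSub C.perm bs = ⊥ := Subgroup.eq_bot_of_card_le _ h
  rw [← h1]
  exact ker_le_fixSub _ _

/-- Two words with the same action on the final table have the same value, if the representation is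
faithful. -/
theorem CoxCert.word_eq (hinj : Function.Injective C.perm) (l1 l2 : List ℕ)
    (h1 : ∀ a ∈ l1, a < D.jc) (h2 : ∀ a ∈ l2, a < D.jc)
    (hw : ∀ i, i < n → eqPt T l1 l2 i = true) :
    (l1.map (coxVal edges extra gen D.jc)).prod = (l2.map (coxVal edges extra gen D.jc)).prod := by
  apply hinj
  apply Equiv.ext
  intro i
  apply Fin.ext
  rw [C.perm_list l1 h1 i, C.perm_list l2 h2 i]
  exact Nat.eq_of_beq_eq_true (hw i i.2)

/-- A normal subgroup inside the subgroup acts trivially. -/
theorem CoxCert.normal_le_ker (N : Subgroup (Cfsg.Spor.CoxPresented α edges extra)) (hN : N.Normal)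
    (hle : N ≤ (Subgroup.closure S).map
      (PresentedGroup.mk (Cfsg.Spor.coxRelators edges ∪ {r | r ∈ extra}))) : N ≤ C.perm.ker := by
  obtain ⟨e, he, he1⟩ := C.exists_equiv
  intro x hx
  rw [MonoidHom.mem_ker]
  apply Equiv.ext
  intro i
  obtain ⟨q, rfl⟩ := e.surjective i
  rw [← he, Equiv.Perm.one_apply]
  apply congrArg e
  induction q using QuotientGroup.induction_on with
  | H g =>
    rw [MulAction.Quotient.smul_mk, smul_eq_mul, QuotientGroup.eq]
    have : (x * g)⁻¹ * g = g⁻¹ * x⁻¹ * g⁻¹⁻¹ := by group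
    rw [this]
    exact hle (hN.conj_mem _ (N.inv_mem hx) _)

end

end Cfsg.Agent.Helper28
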