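import Mathlib
import Cfsg.Agent.Helper28.Grp
import Cfsg.Agent.Helper28.CoxG
import Cfsg.Agent.Helper28.TCL

/-!
# More lemmas for orders and simplicity of presented groups (helper28)
-/

set_option autoImplicit false

namespace Cfsg.Agent.Helper28

/-- the fourth power of an involution -/
theorem pow_four_of_sq {A : Type*} [Monoid A] (v : A) (h : v * v = 1) : v ^ 4 = 1 := by
  have e : v ^ 4 = (v * v) * (v * v) := by
    simp only [pow_succ, pow_zero, one_mul, mul_assoc]
  rw [e, h, one_mul]

/-- an involution of odd order is trivial -/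
theorem eq_one_of_sq_of_pow_odd {A : Type*} [Group A] (v : A) (h2 : v * v = 1) (m : ℕ)
    (hm : Odd m) (h : v ^ m = 1) : v = 1 := by
  obtain ⟨k, rfl⟩ := hm
  rw [pow_succ, pow_mul, pow_two, h2, one_pow, one_mul] at h
  exact h

/-- In a commutative group two involutions whose product has odd order are equal. -/
theorem comm_eq_of_pow_odd {A : Type*} [CommGroup A] (X Y : A) (hX : X * X = 1) (hY : Y * Y = 1)
    (m : ℕ) (hm : Odd m) (h : (X * Y) ^ m = 1) : X = Y := by
  have h2 : (X * Y) * (X * Y) = 1 := by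
    rw [mul_mul_mul_comm, hX, hY, one_mul]
  have h3 := eq_one_of_sq_of_pow_odd (X * Y) h2 m hm h
  have h4 : X = Y⁻¹ := eq_inv_of_mul_eq_one_left h3
  rw [h4]
  exact (eq_inv_of_mul_eq_one_left hY).symm

/-- Modulo a normal subgroup containing `x`: if `y` is an involution and `x y` has odd order, then `y`
is in the subgroup. -/
theorem mem_of_rel_odd {G : Type*} [Group G] (N : Subgroup G) (hN : N.Normal) (x y : G) (hx : x ∈ N)
    (hy : y * y = 1) (m : ℕ) (hm : Odd m) (h : (x * y) ^ m = 1) : y ∈ N := by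
  have h1 : ((x * y : G) : G ⧸ N) ^ m = 1 := by
    rw [← QuotientGroup.mk_pow, h]; rfl
  rw [QuotientGroup.mk_mul, (QuotientGroup.eq_one_iff x).mpr hx, one_mul] at h1
  have h2 : (y : G ⧸ N) * (y : G ⧸ N) = 1 := by
    rw [← QuotientGroup.mk_mul, hy]; rfl
  exact (QuotientGroup.eq_one_iff y).mp (eq_one_of_sq_of_pow_odd _ h2 m hm h1)

/-- the same with the roles exchanged -/
theorem mem_of_rel_odd' {G : Type*} [Group G] (N : Subgroup G) (hN : N.Normal) (x y : G) (hy : y ∈ N)
    (hx : x * x = 1) (m : ℕ) (hm : Odd m) (h : (x * y) ^ m = 1) : x ∈ N := by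
  have h1 : ((x * y : G) : G ⧸ N) ^ m = 1 := by
    rw [← QuotientGroup.mk_pow, h]; rfl
  rw [QuotientGroup.mk_mul, (QuotientGroup.eq_one_iff y).mpr hy, mul_one] at h1
  have h2 : (x : G ⧸ N) * (x : G ⧸ N) = 1 := by
    rw [← QuotientGroup.mk_mul, hx]; rfl
  exact (QuotientGroup.eq_one_iff x).mp (eq_one_of_sq_of_pow_odd _ h2 m hm h1)

/-- A cyclic subgroup is normalised by a subgroup whose generators (and their inverses) conjugate its
generator into it. -/
theorem zpowers_normal_of_gens {G : Type*} [Group G] (z : G) (S : Set G)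
    (h : ∀ s ∈ S, s * z * s⁻¹ ∈ Subgroup.zpowers z ∧ s⁻¹ * z * s ∈ Subgroup.zpowers z) :
    ∀ x ∈ Subgroup.closure S, ∀ y ∈ Subgroup.zpowers z, x * y * x⁻¹ ∈ Subgroup.zpowers z := by
  have key : ∀ x ∈ Subgroup.closure S,
      (∀ y ∈ Subgroup.zpowers z, x * y * x⁻¹ ∈ Subgroup.zpowers z) ∧
      (∀ y ∈ Subgroup.zpowers z, x⁻¹ * y * x ∈ Subgroup.zpowers z) := by
    intro x hx
    induction hx using Subgroup.closure_induction with
    | mem s hs =>
      constructor
      · intro y hy
        obtain ⟨k, rfl⟩ := Subgroup.mem_zpowers_iff.mp hy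
        rw [← conj_zpow]
        exact Subgroup.zpow_mem _ (h s hs).1 k
      · intro y hy
        obtain ⟨k, rfl⟩ := Subgroup.mem_zpowers_iff.mp hy
        have e : s⁻¹ * z ^ k * s = (s⁻¹ * z * s⁻¹⁻¹) ^ k := by rw [conj_zpow, inv_inv]
        rw [e]
        have h2 := (h s hs).2
        rw [show s⁻¹ * z * s = s⁻¹ * z * s⁻¹⁻¹ by rw [inv_inv]] at h2
        exact Subgroup.zpow_mem _ h2 k
    | one =>
      refine ⟨fun y hy => ?_, fun y hy => ?_⟩
      · rw [one_mul, inv_one, mul_one]; exact hy
      · rw [inv_one, one_mul, mul_one]; exact hy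
    | mul a b _ _ iha ihb =>
      refine ⟨fun y hy => ?_, fun y hy => ?_⟩
      · have e : a * b * y * (a * b)⁻¹ = a * (b * y * b⁻¹) * a⁻¹ := by group
        rw [e]; exact iha.1 _ (ihb.1 y hy)
      · have e : (a * b)⁻¹ * y * (a * b) = b⁻¹ * (a⁻¹ * y * a) * b := by group
        rw [e]; exact ihb.2 _ (iha.2 y hy)
    | inv a _ iha =>
      refine ⟨fun y hy => ?_, fun y hy => ?_⟩
      · rw [inv_inv]; exact iha.2 y hy
      · rw [inv_inv]; exact iha.1 y hy
  intro x hx
  exact (key x hx).1

/-- `maximal_of_orbits` for orbits of pairwise different sizes greater than one. -/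
theorem maximal_of_orbits' {G : Type*} [Group G] (H : Subgroup G) {k : ℕ} (q : Fin k → G ⧸ H)
    (m : Fin k → ℕ)
    (hm : ∀ i, (MulAction.orbit H (q i)).ncard = m i)
    (hinj : Function.Injective m) (hpos : ∀ i, 1 < m i)
    (hsum : 1 + ∑ i, m i = H.index)
    (harith : ∀ I : Finset (Fin k), (1 + ∑ i ∈ I, m i) ∣ H.index → I = ∅ ∨ I = Finset.univ)
    (L : Subgroup G) (hL : H ≤ L) : L = H ∨ L = ⊤ := by
  refine maximal_of_orbits H q m hm ?_ ?_ hsum harith L hL
  · intro i j hij
    apply orbit_disjoint_of_ncard_ne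
    rw [hm i, hm j]
    exact fun h => hij (hinj h)
  · intro i
    apply mk_one_notMem_orbit
    rw [hm i]
    exact hpos i


section Cox

variable {α : Type} [DecidableEq α] (edges : List (α × ℕ × α)) (extra : List (FreeGroup α))

/-- a normal subgroup containing a node contains the nodes joined to it with an odd label -/
theorem cox_normal_edge_odd (N : Subgroup (Cfsg.Spor.CoxPresented α edges extra)) (hN : N.Normal)
    (x y : α) (hx : x ∈ Cfsg.Spor.coxNodes edges) (hy : y ∈ Cfsg.Spor.coxNodes edges)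
    (hodd : Odd (Cfsg.Spor.coxLabel edges x y)) (hxN : PresentedGroup.of x ∈ N) :
    PresentedGroup.of y ∈ N :=
  mem_of_rel_odd N hN _ _ hxN (cox_sq edges extra y hy) _ hodd (cox_pair edges extra x y hx hy)

/-- in the abelianisation, nodes joined with an odd label have the same image -/
theorem cox_ab_edge_odd (x y : α) (hx : x ∈ Cfsg.Spor.coxNodes edges) (hy : y ∈ Cfsg.Spor.coxNodes edges)
    (hodd : Odd (Cfsg.Spor.coxLabel edges x y)) :
    (Abelianization.of (PresentedGroup.of x : Cfsg.Spor.CoxPresented α edges extra)) =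
      Abelianization.of (PresentedGroup.of y : Cfsg.Spor.CoxPresented α edges extra) := by
  apply comm_eq_of_pow_odd _ _ (cox_ab_sq edges extra x hx) (cox_ab_sq edges extra y hy) _ hodd
  rw [← map_mul, ← map_pow, cox_pair edges extra x y hx hy, map_one]

end Cox

section

variable {α : Type} [DecidableEq α] {edges : List (α × ℕ × α)} {extra : List (FreeGroup α)}
  {S : Set (FreeGroup α)} {gen : ℕ → α} {code : α → ℕ} {D : TCData} {n : ℕ}
  {lv : ℕ → ℕ} {T : ℕ → ℕ → ℕ} {pairs : List (ℕ × ℕ × ℕ)} {extraL subL : List (List ℕ)}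
  (C : CoxCert edges extra S gen code D n lv T pairs extraL subL)
include C

/-- An upper bound for the order and a stabiliser chain with the same product give the order, and the
permutation representation is faithful. -/
theorem CoxCert.card_inj (N : ℕ) (hN : 0 < N) (bs : List ℕ)
    (hfin : Finite (Cfsg.Spor.CoxPresented α edges extra))
    (hle : Nat.card (Cfsg.Spor.CoxPresented α edges extra) ≤ N)
    (hlb : N * Nat.card (fixSub C.perm bs) ≤ Nat.card (Cfsg.Spor.CoxPresented α edges extra)) :
    Nat.card (Cfsg.Spor.CoxPresented α edges extra) = N ∧ Function.Injective C.perm := by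
  have hpos : 0 < Nat.card (fixSub C.perm bs) := Nat.card_pos
  have h1 : N * 1 ≤ Nat.card (Cfsg.Spor.CoxPresented α edges extra) :=
    le_trans (Nat.mul_le_mul_left _ hpos) hlb
  rw [Nat.mul_one] at h1
  refine ⟨le_antisymm hle h1, ?_⟩
  apply C.perm_injective bs
  have h2 := le_trans hlb hle
  exact Nat.le_of_mul_le_mul_left (by rw [Nat.mul_one]; exact h2) hN

end

end Cfsg.Agent.Helper28
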