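import Cfsg.Agent.Helper28.Grp2
import Cfsg.Prelude.Def_SporadicB

/-!
# More group theory for the certificates (helper28)

Double cosets from certified orbits, conjugacy classes and centralisers, classes of
3-transpositions, and a criterion for non-split double covers.
-/

set_option autoImplicit false

namespace Cfsg.Agent.Helper28

open scoped commutatorElement

open Classical in
/-- Orbits of a subgroup on its cosets with pairwise different sizes greater than one, whose sizes
add up to the index less one, exhaust the cosets other than the trivial one. -/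
theorem orbits_cover {G : Type*} [Group G] (H : Subgroup G) {k : ℕ} (q : Fin k → G ⧸ H)
    (m : Fin k → ℕ)
    (hm : ∀ i, (MulAction.orbit H (q i)).ncard = m i)
    (hinj : Function.Injective m) (hpos : ∀ i, 1 < m i)
    (hsum : 1 + ∑ i, m i = H.index) (p : G ⧸ H) :
    p = QuotientGroup.mk 1 ∨ ∃ i, p ∈ MulAction.orbit H (q i) := by
  have hidx : H.index ≠ 0 := by omega
  have : H.FiniteIndex := ⟨hidx⟩
  have : Finite (G ⧸ H) := Subgroup.finite_quotient_of_finiteIndex
  have : Fintype (G ⧸ H) := Fintype.ofFinite _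
  have hdisj : ∀ i j, i ≠ j → Disjoint (MulAction.orbit H (q i)) (MulAction.orbit H (q j)) := by
    intro i j hij
    apply orbit_disjoint_of_ncard_ne
    rw [hm i, hm j]
    exact fun h => hij (hinj h)
  have h0 : ∀ i, (QuotientGroup.mk 1 : G ⧸ H) ∉ MulAction.orbit H (q i) := by
    intro i
    apply mk_one_notMem_orbit
    rw [hm i]
    exact hpos i
  let O : Fin k → Finset (G ⧸ H) := fun i => (MulAction.orbit H (q i)).toFinset
  have hOmem : ∀ i y, y ∈ O i ↔ y ∈ MulAction.orbit H (q i) := fun i y => Set.mem_toFinset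
  have hOcard : ∀ i, (O i).card = m i := by
    intro i
    rw [← hm i, Set.ncard_eq_toFinset_card']
  have h1 : (QuotientGroup.mk 1 : G ⧸ H) ∉ Finset.univ.biUnion O := by
    intro hmem
    obtain ⟨i, _, hi⟩ := Finset.mem_biUnion.mp hmem
    exact h0 i ((hOmem i _).mp hi)
  have h2 : (Finset.univ.biUnion O).card = ∑ i, (O i).card := by
    apply Finset.card_biUnion
    intro i _ j _ hij
    show Disjoint (O i) (O j)
    rw [Finset.disjoint_left]
    intro y hy hy'
    exact Set.disjoint_left.mp (hdisj i j hij) ((hOmem i y).mp hy) ((hOmem j y).mp hy')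
  have hUcard : (insert (QuotientGroup.mk 1 : G ⧸ H) (Finset.univ.biUnion O)).card = 1 + ∑ i, m i := by
    rw [Finset.card_insert_of_notMem h1, h2, add_comm]
    congr 1
    exact Finset.sum_congr rfl (fun i _ => hOcard i)
  have hUuniv : insert (QuotientGroup.mk 1 : G ⧸ H) (Finset.univ.biUnion O) = Finset.univ := by
    apply Finset.eq_univ_of_card
    rw [hUcard, hsum, Subgroup.index, Nat.card_eq_fintype_card]
  have hp : p ∈ insert (QuotientGroup.mk 1 : G ⧸ H) (Finset.univ.biUnion O) := by
    rw [hUuniv]; exact Finset.mem_univ p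
  rcases Finset.mem_insert.mp hp with h | h
  · exact Or.inl h
  · obtain ⟨i, _, hi⟩ := Finset.mem_biUnion.mp h
    exact Or.inr ⟨i, (hOmem i p).mp hi⟩

/-- The double cosets of the representatives of such orbits exhaust the group. -/
theorem double_coset_cover {G : Type*} [Group G] (H : Subgroup G) {k : ℕ} (x : Fin k → G)
    (m : Fin k → ℕ)
    (hm : ∀ i, (MulAction.orbit H (QuotientGroup.mk (x i) : G ⧸ H)).ncard = m i)
    (hinj : Function.Injective m) (hpos : ∀ i, 1 < m i)
    (hsum : 1 + ∑ i, m i = H.index) (y : G) :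
    y ∈ H ∨ ∃ i, ∃ h ∈ H, ∃ h' ∈ H, y = h * x i * h' := by
  rcases orbits_cover H (fun i => (QuotientGroup.mk (x i) : G ⧸ H)) m hm hinj hpos hsum
    (QuotientGroup.mk y) with h | ⟨i, hi⟩
  · left
    have h3 := QuotientGroup.eq.mp h
    rw [mul_one] at h3
    exact (H.inv_mem_iff).mp h3
  · right
    obtain ⟨⟨h, hh⟩, e⟩ := hi
    have e' : h • (QuotientGroup.mk (x i) : G ⧸ H) = QuotientGroup.mk y := e
    rw [MulAction.Quotient.smul_mk, smul_eq_mul] at e'
    have h3 := QuotientGroup.eq.mp e'
    exact ⟨i, h, hh, (h * x i)⁻¹ * y, h3, by group⟩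

/-- The number of conjugates of an element is the index of its centraliser. -/
theorem card_conjugatesOf {G : Type*} [Group G] (t : G) :
    Nat.card (conjugatesOf t) = (Subgroup.centralizer ({t} : Set G)).index := by
  have h1 : conjugatesOf t = MulAction.orbit (ConjAct G) t := by
    ext x
    rw [ConjAct.mem_orbit_conjAct, isConj_comm]
    rfl
  rw [h1, Nat.card_coe_set_eq, ← MulAction.index_stabilizer,
    Subgroup.centralizer_eq_comap_stabilizer]
  exact (Subgroup.index_comap_of_surjective _ (ConjAct.toConjAct (G := G)).surjective).symm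

/-- The conjugates of an involution `t` are 3-transpositions if this holds for `t` and its conjugates
by representatives of the double cosets of a subgroup centralising `t`. -/
theorem three_transp_of_reps {G : Type*} [Group G] (H : Subgroup G) (t : G)
    (ht : ∀ h ∈ H, h * t = t * h) (ht2 : t * t = 1)
    (hcov : ∀ y : G, y ∈ H ∨ ∃ x : G,
      ((t * (x * t * x⁻¹)) ^ 2 = 1 ∨ (t * (x * t * x⁻¹)) ^ 3 = 1) ∧
        ∃ h ∈ H, ∃ h' ∈ H, y = h * x * h') :
    ∀ d ∈ conjugatesOf t, ∀ e ∈ conjugatesOf t, (d * e) ^ 2 = 1 ∨ (d * e) ^ 3 = 1 := by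
  have key : ∀ y : G, (t * (y * t * y⁻¹)) ^ 2 = 1 ∨ (t * (y * t * y⁻¹)) ^ 3 = 1 := by
    intro y
    rcases hcov y with hy | ⟨x, hx, h, hh, h', hh', hy⟩
    · left
      have e1 : y * t * y⁻¹ = t := by rw [ht y hy, mul_inv_cancel_right]
      rw [e1, ht2, one_pow]
    · have e1 : h' * t * h'⁻¹ = t := by rw [ht h' hh', mul_inv_cancel_right]
      have e2 : t * h = h * t := (ht h hh).symm
      have e3 : t * (y * t * y⁻¹) = h * (t * (x * t * x⁻¹)) * h⁻¹ := by
        calc t * (y * t * y⁻¹) = t * (h * x * (h' * t * h'⁻¹) * x⁻¹ * h⁻¹) := by rw [hy]; group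
          _ = t * h * (x * t * x⁻¹) * h⁻¹ := by rw [e1]; group
          _ = h * (t * (x * t * x⁻¹)) * h⁻¹ := by rw [e2]; group
      rw [e3, conj_pow, conj_pow]
      rcases hx with hx | hx
      · left; rw [hx, mul_one, mul_inv_cancel]
      · right; rw [hx, mul_one, mul_inv_cancel]
  intro d hd e he
  obtain ⟨g, rfl⟩ := isConj_iff.mp (show IsConj t d from hd)
  obtain ⟨k, rfl⟩ := isConj_iff.mp (show IsConj t e from he)
  have e4 : g * t * g⁻¹ * (k * t * k⁻¹) = g * (t * ((g⁻¹ * k) * t * (g⁻¹ * k)⁻¹)) * g⁻¹ := by group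
  rw [e4, conj_pow, conj_pow]
  rcases key (g⁻¹ * k) with hx | hx
  · left; rw [hx, mul_one, mul_inv_cancel]
  · right; rw [hx, mul_one, mul_inv_cancel]

/-- A surjective homomorphism from a perfect group has a perfect image. -/
theorem commutator_top_of_surjective {Q C : Type*} [Group Q] [Group C] (f : Q →* C)
    (hf : Function.Surjective f) (hQ : commutator Q = ⊤) : commutator C = ⊤ := by
  rw [commutator_def] at hQ ⊢
  have h := Subgroup.map_commutator (⊤ : Subgroup Q) ⊤ f
  rw [hQ, Subgroup.map_top_of_surjective f hf] at h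
  exact h.symm

/-- A perfect simple group has trivial centre. -/
theorem center_eq_bot_of_simple_perfect {G : Type*} [Group G] [IsSimpleGroup G]
    (h : commutator G = ⊤) : Subgroup.center G = ⊥ := by
  rcases (Subgroup.center G).normal_of_characteristic.eq_bot_or_eq_top with h1 | h1
  · exact h1
  · exfalso
    have h2 : commutator G = ⊥ := by
      rw [commutator_def, Subgroup.commutator_top_left_eq_bot_iff_le_center, h1]
    rw [h] at h2
    exact top_ne_bot h2

/-- The centraliser of a conjugate is isomorphic to the centraliser. -/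
def centralizerConj {G : Type*} [Group G] (g t : G) :
    Subgroup.centralizer ({g * t * g⁻¹} : Set G) ≃* Subgroup.centralizer ({t} : Set G) where
  toFun c := ⟨g⁻¹ * c.1 * g, by
    have hc := Subgroup.mem_centralizer_iff.mp c.2 (g * t * g⁻¹) (Set.mem_singleton _)
    rw [Subgroup.mem_centralizer_iff]
    intro y hy
    rw [Set.mem_singleton_iff.mp hy]
    have e1 : t * (g⁻¹ * c.1 * g) = g⁻¹ * (g * t * g⁻¹ * c.1) * g := by group
    rw [e1, hc]; group⟩
  invFun c := ⟨g * c.1 * g⁻¹, by
    have hc := Subgroup.mem_centralizer_iff.mp c.2 t (Set.mem_singleton _)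
    rw [Subgroup.mem_centralizer_iff]
    intro y hy
    rw [Set.mem_singleton_iff.mp hy]
    have e1 : g * t * g⁻¹ * (g * c.1 * g⁻¹) = g * (t * c.1) * g⁻¹ := by group
    rw [e1, hc]; group⟩
  left_inv c := Subtype.ext (by show g * (g⁻¹ * c.1 * g) * g⁻¹ = c.1; group)
  right_inv c := Subtype.ext (by show g⁻¹ * (g * c.1 * g⁻¹) * g = c.1; group)
  map_mul' c c' := Subtype.ext (by
    show g⁻¹ * (c.1 * c'.1) * g = g⁻¹ * c.1 * g * (g⁻¹ * c'.1 * g); group)

/-- A perfect group with a central involution `z` and a surjection onto a group with trivial centre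
whose kernel is generated by `z` is a non-split double cover of that group. -/
theorem nsdc_of_hom {C K : Type*} [Group C] [Group K] (hK : Subgroup.center K = ⊥)
    (hperf : commutator C = ⊤) (z : C) (hz2 : z * z = 1) (hz1 : z ≠ 1)
    (hzc : ∀ c : C, c * z = z * c)
    (π : C →* K) (hπ : Function.Surjective π) (hker : π.ker = Subgroup.zpowers z) :
    Cfsg.IsNonsplitDoubleCover C K := by
  have hcen : Subgroup.center C = Subgroup.zpowers z := by
    apply le_antisymm
    · intro x hx
      rw [← hker, MonoidHom.mem_ker]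
      have h1 : π x ∈ Subgroup.center K := by
        rw [Subgroup.mem_center_iff]
        intro k
        obtain ⟨c, rfl⟩ := hπ k
        rw [← map_mul, ← map_mul, Subgroup.mem_center_iff.mp hx c]
      rw [hK] at h1
      exact Subgroup.mem_bot.mp h1
    · rw [Subgroup.zpowers_le, Subgroup.mem_center_iff]
      exact hzc
  have hzmem : z ∈ Subgroup.center C := by
    rw [hcen]; exact Subgroup.mem_zpowers z
  refine ⟨?_, ?_, ?_⟩
  · rw [hcen, Nat.card_zpowers]
    exact orderOf_eq_prime (by rw [pow_two]; exact hz2) hz1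
  · have e1 : C ⧸ Subgroup.center C ≃* C ⧸ π.ker :=
      QuotientGroup.quotientMulEquivOfEq (by rw [hcen, hker])
    exact ⟨e1.trans (QuotientGroup.quotientKerEquivOfSurjective π hπ)⟩
  · intro L hL
    have hle : commutator C ≤ L := by
      rw [commutator_def, Subgroup.commutator_le]
      intro x _ y _
      obtain ⟨⟨⟨a, ha⟩, ⟨b, hb⟩⟩, rfl⟩ := hL.2 x
      obtain ⟨⟨⟨a', ha'⟩, ⟨b', hb'⟩⟩, rfl⟩ := hL.2 y
      have hca : ∀ w : C, a * w = w * a := fun w => (Subgroup.mem_center_iff.mp ha w).symm
      have hca' : ∀ w : C, a' * w = w * a' := fun w => (Subgroup.mem_center_iff.mp ha' w).symm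
      have e : ⁅a * b, a' * b'⁆ = ⁅b, b'⁆ := by
        rw [commutatorElement_def, commutatorElement_def]
        calc a * b * (a' * b') * (a * b)⁻¹ * (a' * b')⁻¹
            = a * (b * a' * b' * b⁻¹) * a⁻¹ * b'⁻¹ * a'⁻¹ := by group
          _ = b * a' * b' * b⁻¹ * b'⁻¹ * a'⁻¹ := by rw [hca, mul_inv_cancel_right]
          _ = a' * (b * b' * b⁻¹ * b'⁻¹) * a'⁻¹ := by rw [← hca' b]; group
          _ = b * b' * b⁻¹ * b'⁻¹ := by rw [hca', mul_inv_cancel_right]
      show ⁅a * b, a' * b'⁆ ∈ L
      rw [e]
      rw [commutatorElement_def]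
      exact L.mul_mem (L.mul_mem (L.mul_mem hb hb') (L.inv_mem hb)) (L.inv_mem hb')
    rw [hperf] at hle
    have hLtop : L = ⊤ := top_le_iff.mp hle
    have hd := hL.disjoint
    rw [hLtop, disjoint_top] at hd
    rw [hd] at hzmem
    exact hz1 (Subgroup.mem_bot.mp hzmem)

end Cfsg.Agent.Helper28
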