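import Cfsg.Agent.Helper28.Grp3

/-!
# Maximality from orbits, with witnesses (helper28)
-/

set_option autoImplicit false

namespace Cfsg.Agent.Helper28

open Classical in
/-- A subgroup of finite index is maximal if each union of its orbits on its cosets that contains the
trivial coset, other than the trivial coset and everything, either has a size `1 + ∑_{i ∈ I} m i` not
dividing the index, or is not closed: it contains the cosets of two elements but not the coset of their
product. -/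
theorem maximal_of_orbits_wit {G : Type*} [Group G] (H : Subgroup G) {k : ℕ} (q : Fin k → G ⧸ H)
    (m : Fin k → ℕ)
    (hm : ∀ i, (MulAction.orbit H (q i)).ncard = m i)
    (hdisj : ∀ i j, i ≠ j → Disjoint (MulAction.orbit H (q i)) (MulAction.orbit H (q j)))
    (h0 : ∀ i, (QuotientGroup.mk 1 : G ⧸ H) ∉ MulAction.orbit H (q i))
    (hsum : 1 + ∑ i, m i = H.index)
    (harith : ∀ I : Finset (Fin k), (1 + ∑ i ∈ I, m i) ∣ H.index → I = ∅ ∨ I = Finset.univ ∨
      ∃ g₁ g₂ : G, (∃ i ∈ I, (QuotientGroup.mk g₁ : G ⧸ H) ∈ MulAction.orbit H (q i)) ∧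
        (∃ i ∈ I, (QuotientGroup.mk g₂ : G ⧸ H) ∈ MulAction.orbit H (q i)) ∧
        (∃ j, j ∉ I ∧ (QuotientGroup.mk (g₁ * g₂) : G ⧸ H) ∈ MulAction.orbit H (q j)))
    (L : Subgroup G) (hL : H ≤ L) : L = H ∨ L = ⊤ := by
  have hidx : H.index ≠ 0 := by omega
  have : H.FiniteIndex := ⟨hidx⟩
  have : Finite (G ⧸ H) := Subgroup.finite_quotient_of_finiteIndex
  have : Fintype (G ⧸ H) := Fintype.ofFinite _
  let O : Fin k → Finset (G ⧸ H) := fun i => (MulAction.orbit H (q i)).toFinset
  have hOmem : ∀ i y, y ∈ O i ↔ y ∈ MulAction.orbit H (q i) := fun i y => Set.mem_toFinset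
  have hOcard : ∀ i, (O i).card = m i := by
    intro i
    rw [← hm i, Set.ncard_eq_toFinset_card']
  let U : Finset (Fin k) → Finset (G ⧸ H) := fun I => insert (QuotientGroup.mk 1) (I.biUnion O)
  have hUcard : ∀ I, (U I).card = 1 + ∑ i ∈ I, m i := by
    intro I
    have h1 : (QuotientGroup.mk 1 : G ⧸ H) ∉ I.biUnion O := by
      intro hmem
      obtain ⟨i, _, hi⟩ := Finset.mem_biUnion.mp hmem
      exact h0 i ((hOmem i _).mp hi)
    have h2 : (I.biUnion O).card = ∑ i ∈ I, (O i).card := by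
      apply Finset.card_biUnion
      intro i _ j _ hij
      show Disjoint (O i) (O j)
      rw [Finset.disjoint_left]
      intro y hy hy'
      exact Set.disjoint_left.mp (hdisj i j hij) ((hOmem i y).mp hy) ((hOmem j y).mp hy')
    show (insert (QuotientGroup.mk 1) (I.biUnion O)).card = _
    rw [Finset.card_insert_of_notMem h1, h2, add_comm]
    congr 1
    exact Finset.sum_congr rfl (fun i _ => hOcard i)
  have hUuniv : U Finset.univ = Finset.univ := by
    apply Finset.eq_univ_of_card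
    rw [hUcard, hsum, Subgroup.index, Nat.card_eq_fintype_card]
  -- the orbit of the trivial coset under `L`
  have hstab : MulAction.stabilizer L (QuotientGroup.mk 1 : G ⧸ H) = H.subgroupOf L := by
    ext ⟨l, hl⟩
    rw [MulAction.mem_stabilizer_iff, Subgroup.mem_subgroupOf]
    show (l • (QuotientGroup.mk 1 : G ⧸ H)) = QuotientGroup.mk 1 ↔ l ∈ H
    rw [MulAction.Quotient.smul_mk, smul_eq_mul, mul_one, QuotientGroup.eq, mul_one, inv_mem_iff]
  have hBcard : (MulAction.orbit L (QuotientGroup.mk 1 : G ⧸ H)).ncard = H.relIndex L := by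
    rw [← MulAction.index_stabilizer, hstab]
    rfl
  have hBdvd : (MulAction.orbit L (QuotientGroup.mk 1 : G ⧸ H)).ncard ∣ H.index := by
    rw [hBcard]
    exact Dvd.intro _ (Subgroup.relIndex_mul_index hL)
  have hBmem : ∀ y : G ⧸ H, y ∈ MulAction.orbit L (QuotientGroup.mk 1 : G ⧸ H) ↔
      ∃ l ∈ L, y = QuotientGroup.mk l := by
    intro y
    constructor
    · rintro ⟨⟨l, hl⟩, rfl⟩
      refine ⟨l, hl, ?_⟩
      show (l • (QuotientGroup.mk 1 : G ⧸ H)) = _
      rw [MulAction.Quotient.smul_mk, smul_eq_mul, mul_one]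
    · rintro ⟨l, hl, rfl⟩
      refine ⟨⟨l, hl⟩, ?_⟩
      show (l • (QuotientGroup.mk 1 : G ⧸ H)) = _
      rw [MulAction.Quotient.smul_mk, smul_eq_mul, mul_one]
  -- invariance under `H`
  have hBinv : ∀ (h : G), h ∈ H → ∀ y : G ⧸ H, y ∈ MulAction.orbit L (QuotientGroup.mk 1 : G ⧸ H) →
      h • y ∈ MulAction.orbit L (QuotientGroup.mk 1 : G ⧸ H) := by
    intro h hh y hy
    obtain ⟨l, hl, rfl⟩ := (hBmem y).mp hy
    rw [hBmem]
    exact ⟨h * l, L.mul_mem (hL hh) hl, by rw [MulAction.Quotient.smul_mk, smul_eq_mul]⟩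
  let I : Finset (Fin k) := Finset.univ.filter
    (fun i => q i ∈ MulAction.orbit L (QuotientGroup.mk 1 : G ⧸ H))
  have hBU : (MulAction.orbit L (QuotientGroup.mk 1 : G ⧸ H)).toFinset = U I := by
    ext y
    rw [Set.mem_toFinset]
    show _ ↔ y ∈ insert (QuotientGroup.mk 1) (I.biUnion O)
    rw [Finset.mem_insert, Finset.mem_biUnion]
    constructor
    · intro hy
      have hyU : y ∈ U Finset.univ := by rw [hUuniv]; exact Finset.mem_univ y
      rcases Finset.mem_insert.mp hyU with h | h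
      · exact Or.inl h
      · right
        obtain ⟨i, _, hi⟩ := Finset.mem_biUnion.mp h
        refine ⟨i, ?_, hi⟩
        rw [Finset.mem_filter]
        refine ⟨Finset.mem_univ i, ?_⟩
        -- q i = h⁻¹ • y
        obtain ⟨⟨h', hh'⟩, rfl⟩ := (hOmem i y).mp hi
        have := hBinv h'⁻¹ (H.inv_mem hh') _ hy
        have e : h'⁻¹ • ((⟨h', hh'⟩ : H) • q i) = q i := by
          show h'⁻¹ • (h' • q i) = q i
          rw [inv_smul_smul]
        rwa [e] at this
    · rintro (h | ⟨i, hi, hy⟩)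
      · rw [h]; exact MulAction.mem_orbit_self _
      · obtain ⟨⟨h', hh'⟩, rfl⟩ := (hOmem i y).mp hy
        exact hBinv h' hh' _ (Finset.mem_filter.mp hi).2
  have hcardB : (MulAction.orbit L (QuotientGroup.mk 1 : G ⧸ H)).ncard = 1 + ∑ i ∈ I, m i := by
    rw [Set.ncard_eq_toFinset_card', hBU, hUcard]
  rw [hcardB] at hBdvd
  have hLmem : ∀ g : G, (QuotientGroup.mk g : G ⧸ H) ∈
      MulAction.orbit L (QuotientGroup.mk 1 : G ⧸ H) → g ∈ L := by
    intro g hg
    obtain ⟨l, hl, e⟩ := (hBmem _).mp hg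
    have h3 := QuotientGroup.eq.mp e
    have h4 : g⁻¹ * l ∈ L := hL h3
    have e2 : g = l * (g⁻¹ * l)⁻¹ := by group
    rw [e2]
    exact L.mul_mem hl (L.inv_mem h4)
  have hUB : ∀ i ∈ I, ∀ y ∈ MulAction.orbit H (q i),
      y ∈ MulAction.orbit L (QuotientGroup.mk 1 : G ⧸ H) := by
    intro i hi y hy
    have h1 : y ∈ U I := by
      show y ∈ insert (QuotientGroup.mk 1) (I.biUnion O)
      rw [Finset.mem_insert, Finset.mem_biUnion]
      exact Or.inr ⟨i, hi, (hOmem i y).mpr hy⟩
    rw [← hBU, Set.mem_toFinset] at h1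
    exact h1
  rcases harith I hBdvd with hI | hI | ⟨g₁, g₂, ⟨i, hi, h1⟩, ⟨i', hi', h2⟩, ⟨j, hj, h3⟩⟩
  rotate_left 2
  · exfalso
    have hg1 : g₁ ∈ L := hLmem g₁ (hUB i hi _ h1)
    have hg2 : g₂ ∈ L := hLmem g₂ (hUB i' hi' _ h2)
    have hg : (QuotientGroup.mk (g₁ * g₂) : G ⧸ H) ∈
        MulAction.orbit L (QuotientGroup.mk 1 : G ⧸ H) :=
      (hBmem _).mpr ⟨g₁ * g₂, L.mul_mem hg1 hg2, rfl⟩
    have hU : (QuotientGroup.mk (g₁ * g₂) : G ⧸ H) ∈ U I := by
      rw [← hBU, Set.mem_toFinset]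
      exact hg
    have hU' : (QuotientGroup.mk (g₁ * g₂) : G ⧸ H) ∈ insert (QuotientGroup.mk 1) (I.biUnion O) := hU
    rw [Finset.mem_insert, Finset.mem_biUnion] at hU'
    rcases hU' with e | ⟨i'', hi'', hmem⟩
    · rw [e] at h3
      exact h0 j h3
    · have hne : i'' ≠ j := fun e => hj (e ▸ hi'')
      exact Set.disjoint_left.mp (hdisj i'' j hne) ((hOmem i'' _).mp hmem) h3
  · left
    apply le_antisymm _ hL
    intro l hl
    have h1 : (QuotientGroup.mk l : G ⧸ H) ∈ (MulAction.orbit L (QuotientGroup.mk 1 : G ⧸ H)).toFinset := by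
      rw [Set.mem_toFinset, hBmem]; exact ⟨l, hl, rfl⟩
    rw [hBU, hI] at h1
    have h2 : (QuotientGroup.mk l : G ⧸ H) = QuotientGroup.mk 1 := by
      simpa [U] using h1
    have h3 := QuotientGroup.eq.mp h2
    rw [mul_one] at h3
    exact (H.inv_mem_iff).mp h3
  · right
    rw [eq_top_iff]
    intro g _
    have h1 : (QuotientGroup.mk g : G ⧸ H) ∈ (MulAction.orbit L (QuotientGroup.mk 1 : G ⧸ H)).toFinset := by
      rw [hBU, hI, hUuniv]; exact Finset.mem_univ _
    rw [Set.mem_toFinset, hBmem] at h1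
    obtain ⟨l, hl, e⟩ := h1
    have h3 := QuotientGroup.eq.mp e
    -- g⁻¹ * l ∈ H
    have h4 : g⁻¹ * l ∈ L := hL h3
    have : g = l * (g⁻¹ * l)⁻¹ := by group
    rw [this]
    exact L.mul_mem hl (L.inv_mem h4)


/-- Two orbits are disjoint if a point of one is not in the other. -/
theorem orbit_disjoint_of_notMem {K X : Type*} [Group K] [MulAction K X] (x y : X)
    (h : y ∉ MulAction.orbit K x) : Disjoint (MulAction.orbit K x) (MulAction.orbit K y) := by
  rcases MulAction.orbit.eq_or_disjoint (G := K) x y with e | e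
  · exact absurd (e ▸ MulAction.mem_orbit_self y) h
  · exact e

end Cfsg.Agent.Helper28
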