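import Cfsg.Agent.Helper28.Grp4

/-!
# Normalisers of subgroups generated by three elements (helper28)
-/

set_option autoImplicit false

namespace Cfsg.Agent.Helper28

/-- An element that permutes three elements by conjugation normalises the subgroup they generate. -/
theorem mem_normalizer_closure3 {G : Type*} [Group G] (a v w a' v' w' s : G)
    (ha : s * a * s⁻¹ = a') (hv : s * v * s⁻¹ = v') (hw : s * w * s⁻¹ = w')
    (hset : ({a', v', w'} : Set G) = {a, v, w}) :
    s ∈ Subgroup.normalizer (Subgroup.closure ({a, v, w} : Set G) : Set G) := by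
  have hmap : (Subgroup.closure ({a, v, w} : Set G)).map (MulAut.conj s).toMonoidHom =
      Subgroup.closure ({a, v, w} : Set G) := by
    rw [MonoidHom.map_closure]
    congr 1
    rw [Set.image_insert_eq, Set.image_insert_eq, Set.image_singleton]
    show ({s * a * s⁻¹, s * v * s⁻¹, s * w * s⁻¹} : Set G) = {a, v, w}
    rw [ha, hv, hw, hset]
  rw [Subgroup.mem_normalizer_iff]
  intro n
  constructor
  · intro hn
    rw [← hmap]
    exact ⟨n, hn, rfl⟩
  · intro hn
    rw [← hmap] at hn
    obtain ⟨m, hm, e⟩ := hn
    have e' : s * m * s⁻¹ = s * n * s⁻¹ := e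
    have e2 : m = n := by
      have h3 : s⁻¹ * (s * m * s⁻¹) * s = s⁻¹ * (s * n * s⁻¹) * s := by rw [e']
      have h4 : ∀ z : G, s⁻¹ * (s * z * s⁻¹) * s = z := fun z => by group
      rw [h4, h4] at h3
      exact h3
    rw [← e2]
    exact hm

end Cfsg.Agent.Helper28
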