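import Cfsg.Agent.Helper28.TCL3

/-!
# Membership in the subgroup of a certificate (helper28)

A word that leads from the point `0` back to it lies in the subgroup; for a certificate over the
trivial subgroup this proves a relation in the presented group.
-/

set_option autoImplicit false

namespace Cfsg.Agent.Helper28

section

variable {α : Type} [DecidableEq α] {edges : List (α × ℕ × α)} {extra : List (FreeGroup α)}
  {S : Set (FreeGroup α)} {gen : ℕ → α} {code : α → ℕ} {D : TCData} {n : ℕ}
  {lv : ℕ → ℕ} {T : ℕ → ℕ → ℕ} {pairs : List (ℕ × ℕ × ℕ)} {extraL subL : List (List ℕ)}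
  (C : CoxCert edges extra S gen code D n lv T pairs extraL subL)
include C

/-- A word leading from the point `0` back to `0` lies in the subgroup. -/
theorem CoxCert.mem_of_walk (l : List ℕ) (hl : letChk D.jc l = true) (hwalk : walkA T l 0 = 0) :
    (l.map (coxVal edges extra gen D.jc)).prod ∈ (Subgroup.closure S).map
      (PresentedGroup.mk (Cfsg.Spor.coxRelators edges ∪ {r | r ∈ extra})) := by
  obtain ⟨e, he, he1⟩ := C.exists_equiv
  have h1 := C.equiv_mk_word e he he1 l hl 0 C.hn hwalk
  have h2 : e.symm ⟨0, C.hn⟩ = QuotientGroup.mk 1 := by rw [← he1, Equiv.symm_apply_apply]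
  rw [h2] at h1
  have h3 := QuotientGroup.eq.mp h1
  rw [mul_one] at h3
  exact (Subgroup.inv_mem_iff _).mp h3

/-- For a certificate over the trivial subgroup, a word leading from `0` back to `0` is trivial. -/
theorem CoxCert.eq_one_of_walk (hS : S = ∅) (l : List ℕ) (hl : letChk D.jc l = true)
    (hwalk : walkA T l 0 = 0) : (l.map (coxVal edges extra gen D.jc)).prod = 1 := by
  have h := C.mem_of_walk l hl hwalk
  rw [hS, Subgroup.closure_empty, Subgroup.map_bot] at h
  exact Subgroup.mem_bot.mp h

end

end Cfsg.Agent.Helper28
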