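import Cfsg.Agent.Helper28.TCC

/-!
# Homomorphisms from a presented group with a certificate (helper28)

Involutions of a group satisfy the relators as soon as the relator words of a certificate evaluate
to `1` on them.
-/

set_option autoImplicit false

namespace Cfsg.Agent.Helper28

section

variable {α : Type} [DecidableEq α] {edges : List (α × ℕ × α)} {extra : List (FreeGroup α)}
  {S : Set (FreeGroup α)} {gen : ℕ → α} {code : α → ℕ} {D : TCData} {n : ℕ}
  {lv : ℕ → ℕ} {T : ℕ → ℕ → ℕ} {pairs : List (ℕ × ℕ × ℕ)} {extraL subL : List (List ℕ)}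
  (C : CoxCert edges extra S gen code D n lv T pairs extraL subL)
include C

/-- The relators hold for involutions on which the relator words of the certificate are trivial. -/
theorem CoxCert.lift_rel {K : Type} [Group K] (v : α → K) (hsq : ∀ x, v x * v x = 1)
    (hw : ∀ l ∈ pairs.map (fun p => pairWord p.1 p.2.1 p.2.2) ++ extraL,
      (l.map (fun k => v (gen k))).prod = 1) :
    ∀ r ∈ Cfsg.Spor.coxRelators edges ∪ {r | r ∈ extra}, FreeGroup.lift v r = 1 := by
  intro r hr
  rcases hr with ⟨x, _, y, _, rfl⟩ | hr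
  · rw [map_pow, map_mul, FreeGroup.lift_apply_of, FreeGroup.lift_apply_of]
    obtain ⟨p, hp, hlab, hor⟩ := C.hpairs2 (code x) (C.hcode x).1 (code y) (C.hcode y).1
    rw [(C.hcode x).2, (C.hcode y).2] at hlab
    have hm : pairWord p.1 p.2.1 p.2.2 ∈ pairs.map (fun p => pairWord p.1 p.2.1 p.2.2) ++ extraL :=
      List.mem_append_left _ (List.mem_map_of_mem hp)
    have h1 : (v (gen p.1) * v (gen p.2.1)) ^ p.2.2 = 1 := by
      have h0 := hw _ hm
      rw [pairWord_prod] at h0
      exact h0
    rw [hlab] at h1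
    rcases hor with ⟨e1, e2⟩ | ⟨e1, e2⟩
    · rw [e1, e2, (C.hcode x).2, (C.hcode y).2] at h1; exact h1
    · rw [e1, e2, (C.hcode x).2, (C.hcode y).2] at h1; exact pow_swap_eq_one _ _ _ h1
  · obtain ⟨l, hl, hwd⟩ := C.hextra2 r hr
    rw [hwd K v hsq]
    exact hw l (List.mem_append_right _ hl)

end

end Cfsg.Agent.Helper28
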