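import Mathlib
import Cfsg.Agent.Lead.LWDefs

/-! # CALL S0747, piece C4: two involutions generate a dihedral group -/

set_option autoImplicit false

namespace Cfsg.Agent.Helper28.LWC4

open Cfsg.Agent.Lead.LW

variable {α : Type*} [Fintype α] [DecidableEq α]

/-- an involution inverting `r` moves powers of `r` across: `r^j * u = u * (r⁻¹)^j` -/
theorem pow_mul_invol {M : Type*} [Group M] (u r : M) (hu : u * u = 1) (hur : u * r * u = r⁻¹)
    (j : ℕ) : r ^ j * u = u * (r⁻¹) ^ j := by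
  have huinv : u⁻¹ = u := inv_eq_of_mul_eq_one_right hu
  have h1 : u * r * u⁻¹ = r⁻¹ := by rw [huinv]; exact hur
  have h2 : u * r ^ j * u⁻¹ = (r⁻¹) ^ j := by rw [← conj_pow, h1]
  rw [← h2, huinv, ← mul_assoc, ← mul_assoc, hu, one_mul]

-- PIECE C4  (pure: two involutions)
theorem dihedral {M : Type*} [Group M] [Finite M] (u v : M) (hu : u * u = 1) (hv : v * v = 1) :
    (∃ s ∈ Subgroup.closure {u, v}, s * s = 1 ∧ s * u * s⁻¹ = v) ∨
    (∃ z ∈ Subgroup.closure {u, v}, z ≠ 1 ∧ z * z = 1 ∧ z * u = u * z ∧ z * v = v * z) := by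
  have hum : u ∈ Subgroup.closure ({u, v} : Set M) := Subgroup.subset_closure (by simp)
  have hvm : v ∈ Subgroup.closure ({u, v} : Set M) := Subgroup.subset_closure (by simp)
  have hrm : u * v ∈ Subgroup.closure ({u, v} : Set M) := Subgroup.mul_mem _ hum hvm
  have huinv : u⁻¹ = u := inv_eq_of_mul_eq_one_right hu
  have hvinv : v⁻¹ = v := inv_eq_of_mul_eq_one_right hv
  have hrinv : (u * v)⁻¹ = v * u := by rw [mul_inv_rev, huinv, hvinv]
  have hur : u * (u * v) * u = (u * v)⁻¹ := by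
    rw [hrinv, ← mul_assoc, hu, one_mul]
  have hvr : v * (u * v) * v = (u * v)⁻¹ := by
    rw [hrinv, mul_assoc, mul_assoc, hv, mul_one]
  have hd : (u * v) ^ orderOf (u * v) = 1 := pow_orderOf_eq_one _
  rcases Nat.even_or_odd (orderOf (u * v)) with ⟨m, hm⟩ | ⟨m, hm⟩
  · -- even order: the central involution
    right
    have hm0 : 0 < m := by
      have := orderOf_pos (u * v)
      omega
    have hz2 : (u * v) ^ m * (u * v) ^ m = 1 := by
      rw [← pow_add, ← hm]; exact hd
    have hzinv : ((u * v)⁻¹) ^ m = (u * v) ^ m := by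
      rw [inv_pow]
      exact inv_eq_of_mul_eq_one_right hz2
    refine ⟨(u * v) ^ m, Subgroup.pow_mem _ hrm m, ?_, hz2, ?_, ?_⟩
    · exact pow_ne_one_of_lt_orderOf hm0.ne' (by omega)
    · rw [pow_mul_invol u (u * v) hu hur m, hzinv]
    · rw [pow_mul_invol v (u * v) hv hvr m, hzinv]
  · -- odd order: a reflection conjugating `u` to `v`
    left
    rw [hm] at hd
    refine ⟨u * (u * v) ^ (m + 1), Subgroup.mul_mem _ hum (Subgroup.pow_mem _ hrm _), ?_, ?_⟩
    · calc u * (u * v) ^ (m + 1) * (u * (u * v) ^ (m + 1))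
          = u * ((u * v) ^ (m + 1) * u) * (u * v) ^ (m + 1) := by group
        _ = u * (u * ((u * v)⁻¹) ^ (m + 1)) * (u * v) ^ (m + 1) := by
            rw [pow_mul_invol u (u * v) hu hur (m + 1)]
        _ = (u * u) * (((u * v)⁻¹) ^ (m + 1) * (u * v) ^ (m + 1)) := by group
        _ = 1 := by rw [hu, inv_pow, inv_mul_cancel, mul_one]
    · rw [mul_inv_eq_iff_eq_mul]
      have h3 : ((u * v)⁻¹) ^ (m + 1) = (u * v) ^ m := by
        rw [inv_pow]
        apply inv_eq_of_mul_eq_one_right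
        rw [← pow_add, show m + 1 + m = 2 * m + 1 by omega, hd]
      have h4 : u * (u * v) ^ (m + 1) * u = ((u * v)⁻¹) ^ (m + 1) := by
        rw [mul_assoc, pow_mul_invol u (u * v) hu hur (m + 1), ← mul_assoc, hu, one_mul]
      have h5 : v * (u * (u * v) ^ (m + 1)) = (u * v) ^ m := by
        rw [← mul_assoc, ← hrinv, pow_succ', inv_mul_cancel_left]
      rw [h4, h3, h5]

end Cfsg.Agent.Helper28.LWC4
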