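import Mathlib
set_option autoImplicit false

/-! # CALL S1159, piece ARI: arithmetic for the small Ree group counting argument -/

namespace Cfsg.Agent.Helper28

/-- PIECE ARI (1) -/
theorem ree_count_arith (q e fm : ℕ) (hq : 27 ≤ q)
    (hB : 2 * (e + fm) + 2 = (q ^ 3 + 1) * (q ^ 3 + 1 - 1) * (q - 1 - 2) +
      2 * (q + 1 - 1) * (q ^ 2 * (q ^ 2 - q + 1)) + 2 * (q ^ 3 + 1))
    (hM : fm * (6 * (q + 1)) = (q ^ 3 * (q - 1) * (q ^ 3 + 1)) * (q + 1 - 4)) :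
    3 * e = q ^ 4 * (q ^ 2 - 1) * (q - 2) := by
  have h1 : q ^ 3 + 1 - 1 = q ^ 3 := Nat.add_sub_cancel _ _
  have h2 : q + 1 - 1 = q := Nat.add_sub_cancel _ _
  have h3 : q + 1 - 4 = q - 3 := by omega
  have h4 : q - 1 - 2 = q - 3 := by omega
  rw [h1, h2, h4] at hB
  rw [h3] at hM
  have hq2 : q ≤ q ^ 2 := by nlinarith
  have hq3 : 3 ≤ q := by omega
  have hq1 : 1 ≤ q := by omega
  have hq21 : 1 ≤ q ^ 2 := by nlinarith
  have hq22 : 2 ≤ q := by omega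
  zify [hq2, hq3, hq1, hq21, hq22] at hB hM ⊢
  have key : ((q : ℤ) + 1) * (3 * (e : ℤ) - (q : ℤ) ^ 4 * ((q : ℤ) ^ 2 - 1) * ((q : ℤ) - 2)) * 2 = 0 := by
    linear_combination (3 * ((q : ℤ) + 1)) * hB - hM
  have hq0 : (q : ℤ) + 1 ≠ 0 := by positivity
  rcases mul_eq_zero.mp key with h5 | h5
  · rcases mul_eq_zero.mp h5 with h6 | h6
    · exact absurd h6 hq0
    · linarith
  · norm_num at h5

/-- PIECE ARI (2) -/
theorem card_or_of_disjoint {α : Type*} [Finite α] (P Q R : α → Prop)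
    (h : ∀ a, P a ↔ Q a ∨ R a) (hd : ∀ a, Q a → R a → False) :
    Nat.card {a // P a} = Nat.card {a // Q a} + Nat.card {a // R a} := by
  classical
  have hdisj : Disjoint Q R := by
    rw [Pi.disjoint_iff]
    intro a
    rw [Prop.disjoint_iff]
    rintro ⟨h1, h2⟩
    exact hd a h1 h2
  rw [Nat.card_congr ((Equiv.subtypeEquivRight h).trans (subtypeOrEquiv Q R hdisj)), Nat.card_sum]

/-- PIECE ARI (3) -/
theorem ree_involution_count (q j : ℕ) (hq : 27 ≤ q)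
    (h : j * (q * (q ^ 2 - 1)) = q ^ 3 * (q - 1) * (q ^ 3 + 1)) :
    j = q ^ 2 * (q ^ 2 - q + 1) := by
  have hq2 : q ≤ q ^ 2 := by nlinarith
  have hq1 : 1 ≤ q := by omega
  have hq21 : 1 ≤ q ^ 2 := by nlinarith
  zify [hq2, hq1, hq21] at h ⊢
  have key : ((j : ℤ) - (q : ℤ) ^ 2 * ((q : ℤ) ^ 2 - q + 1)) * ((q : ℤ) * ((q : ℤ) ^ 2 - 1)) = 0 := by
    linear_combination h
  have hq27 : (27 : ℤ) ≤ q := by exact_mod_cast hq
  have hne : (q : ℤ) * ((q : ℤ) ^ 2 - 1) ≠ 0 := by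
    apply mul_ne_zero
    · linarith
    · nlinarith
  rcases mul_eq_zero.mp key with h5 | h5
  · linarith
  · exact absurd h5 hne

end Cfsg.Agent.Helper28
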