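import Mathlib
import Cfsg.Agent.Helper28.Ree1159ARI
set_option autoImplicit false

/-! # CALL S1159, piece CNT4: elements of square one in an abelian group of order `4n`, `n` odd -/

namespace Cfsg.Agent.Helper28

/-- PIECE CNT4 -/
theorem card_sq_eq_one_of_four_mul {G : Type*} [Group G] [Finite G] (M : Subgroup G)
    (hMcomm : ∀ x ∈ M, ∀ y ∈ M, x * y = y * x) {n : ℕ} (hn : Odd n) (hM : Nat.card M = 4 * n)
    (h2 : ∀ (g : G) (k : ℕ), g ^ 2 ^ k = 1 → g * g = 1) :
    Nat.card {g : G // g ∈ M ∧ g * g = 1} = 4 ∧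
      Nat.card {g : G // g ∈ M ∧ g * g ≠ 1} = 4 * n - 4 ∧ ∀ g ∈ M, g ^ (2 * n) = 1 := by
  -- the subgroup of elements of square one
  let E : Subgroup G :=
    { carrier := {g | g ∈ M ∧ g * g = 1}
      mul_mem' := by
        rintro a b ⟨ha, ha2⟩ ⟨hb, hb2⟩
        refine ⟨M.mul_mem ha hb, ?_⟩
        calc a * b * (a * b) = a * (b * a) * b := by group
          _ = a * (a * b) * b := by rw [hMcomm b hb a ha]
          _ = (a * a) * (b * b) := by group
          _ = 1 := by rw [ha2, hb2, one_mul]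
      one_mem' := ⟨M.one_mem, one_mul 1⟩
      inv_mem' := by
        rintro a ⟨ha, ha2⟩
        refine ⟨M.inv_mem ha, ?_⟩
        rw [← mul_inv_rev, ha2, inv_one] }
  have hEmem : ∀ g : G, g ∈ E ↔ g ∈ M ∧ g * g = 1 := fun g => Iff.rfl
  have hEM : E ≤ M := fun g hg => hg.1
  have hEp : IsPGroup 2 E := by
    intro g
    refine ⟨1, ?_⟩
    apply Subtype.ext
    have := g.2.2
    rw [pow_one, pow_two]
    exact this
  obtain ⟨k, hk⟩ := hEp.exists_card_eq
  have hdvd : Nat.card E ∣ 4 * n := hM ▸ Subgroup.card_dvd_of_le hEM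
  -- a Sylow 2-subgroup of `M` lies in `E`
  obtain ⟨P⟩ : Nonempty (Sylow 2 M) := inferInstance
  have hPcard : Nat.card P = 4 := by
    rw [Sylow.card_eq_multiplicity, hM]
    have hn0 : n ≠ 0 := by
      rintro rfl
      exact absurd hn (by decide)
    have h4 : (4 * n).factorization 2 = 2 := by
      rw [Nat.factorization_mul (by norm_num) hn0]
      have h5 : n.factorization 2 = 0 := by
        apply Nat.factorization_eq_zero_of_not_dvd
        rw [← even_iff_two_dvd, Nat.not_even_iff_odd]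
        exact hn
      have h6 : (4 : ℕ).factorization 2 = 2 := by
        have : (4 : ℕ) = 2 ^ 2 := by norm_num
        rw [this, Nat.Prime.factorization_pow Nat.prime_two]
        simp
      simp [h5, h6]
    rw [h4]
    norm_num
  have hPE : (P : Subgroup M).map M.subtype ≤ E := by
    rintro g ⟨x, hx, rfl⟩
    refine ⟨x.2, ?_⟩
    obtain ⟨j, hj⟩ := P.isPGroup' ⟨x, hx⟩
    apply h2 _ j
    have := congrArg (fun y : ↥(P : Subgroup M) => ((y : M) : G)) hj
    simpa using this
  have hPmap : Nat.card ((P : Subgroup M).map M.subtype) = 4 := by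
    rw [Subgroup.card_map_of_injective M.subtype_injective]
    exact hPcard
  have h4E : 4 ∣ Nat.card E := hPmap ▸ Subgroup.card_dvd_of_le hPE
  have hE4 : Nat.card E = 4 := by
    rw [hk] at hdvd h4E ⊢
    have hcop : Nat.Coprime (2 ^ k) n := by
      apply Nat.Coprime.pow_left
      rw [Nat.coprime_two_left]
      exact hn
    have h7 : 2 ^ k ∣ 4 := hcop.dvd_of_dvd_mul_right hdvd
    exact Nat.dvd_antisymm h7 h4E
  have c1 : Nat.card {g : G // g ∈ M ∧ g * g = 1} = 4 := hE4
  have c0 := card_or_of_disjoint (fun g : G => g ∈ M) (fun g => g ∈ M ∧ g * g = 1)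
    (fun g => g ∈ M ∧ g * g ≠ 1)
    (fun g => by
      constructor
      · intro hg
        by_cases h : g * g = 1
        · exact Or.inl ⟨hg, h⟩
        · exact Or.inr ⟨hg, h⟩
      · rintro (h | h)
        · exact h.1
        · exact h.1)
    (fun g h1 h2 => h2.2 h1.2)
  have c0' : Nat.card {g : G // g ∈ M} = 4 * n := hM
  refine ⟨c1, by omega, ?_⟩
  intro g hg
  have h8 : g ^ (4 * n) = 1 := by
    have h9 : (⟨g, hg⟩ : M) ^ Nat.card M = 1 := pow_card_eq_one'
    rw [hM] at h9
    exact congrArg Subtype.val h9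
  have h10 : (g ^ n) ^ 2 ^ 2 = 1 := by
    rw [← pow_mul, mul_comm]
    exact h8
  have h11 := h2 _ 2 h10
  rw [two_mul, pow_add]
  exact h11

end Cfsg.Agent.Helper28
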