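import Mathlib
import Cfsg.Agent.Helper20.Ree2358AR
import Cfsg.Agent.Helper28.Ree1159ARI
set_option autoImplicit false

/-! # CALL S1159, piece FCL: the fixed-point-free elements split into two classes of tori -/

namespace Cfsg.Agent.Helper28

theorem fcl_arith (Q N : ℕ) (hQ3 : 3 ∣ Q) (hQge : 3 ≤ Q) (hN : N = Q ^ 2 - Q + 1) :
    Nat.Coprime N (Q + 1) ∧ Nat.Coprime N ((Q - 1) * Q ^ 3) ∧
      Nat.gcd (Q + 1) ((Q - 1) * Q ^ 3) ∣ 2 := by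
  obtain ⟨r, hr⟩ : ∃ r, Q = r + 3 := ⟨Q - 3, by omega⟩
  have hNQ : N = Q * (Q - 1) + 1 := by
    rw [hN, hr]
    have h1 : r + 3 - 1 = r + 2 := by omega
    have h2 : (r + 3) ^ 2 = (r + 3) * (r + 2) + (r + 3) := by ring
    rw [h1, h2, Nat.add_sub_cancel]
  have hNQ2 : N = (Q + 1) * (Q - 2) + 3 := by
    rw [hNQ, hr]
    have h1 : r + 3 - 1 = r + 2 := by omega
    have h2 : r + 3 - 2 = r + 1 := by omega
    rw [h1, h2]
    ring
  have c1 : Nat.Coprime N (Q + 1) := by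
    have hd : Nat.gcd N (Q + 1) ∣ 3 := by
      have h1 : Nat.gcd N (Q + 1) ∣ (Q + 1) * (Q - 2) + 3 := by
        conv_rhs => rw [← hNQ2]
        exact Nat.gcd_dvd_left _ _
      have h2 : Nat.gcd N (Q + 1) ∣ (Q + 1) * (Q - 2) := (Nat.gcd_dvd_right _ _).mul_right _
      exact (Nat.dvd_add_right h2).mp h1
    rcases (Nat.dvd_prime Nat.prime_three).mp hd with h | h
    · exact h
    · exfalso
      have h3 : 3 ∣ Q + 1 := h ▸ Nat.gcd_dvd_right _ _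
      omega
  have c2a : Nat.Coprime N Q := by
    have hd : Nat.gcd N Q ∣ 1 := by
      have h1 : Nat.gcd N Q ∣ Q * (Q - 1) + 1 := by
        conv_rhs => rw [← hNQ]
        exact Nat.gcd_dvd_left _ _
      have h2 : Nat.gcd N Q ∣ Q * (Q - 1) := (Nat.gcd_dvd_right _ _).mul_right _
      exact (Nat.dvd_add_right h2).mp h1
    exact Nat.dvd_one.mp hd
  have c2b : Nat.Coprime N (Q - 1) := by
    have hd : Nat.gcd N (Q - 1) ∣ 1 := by
      have h1 : Nat.gcd N (Q - 1) ∣ Q * (Q - 1) + 1 := by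
        conv_rhs => rw [← hNQ]
        exact Nat.gcd_dvd_left _ _
      have h2 : Nat.gcd N (Q - 1) ∣ Q * (Q - 1) := (Nat.gcd_dvd_right _ _).mul_left _
      exact (Nat.dvd_add_right h2).mp h1
    exact Nat.dvd_one.mp hd
  refine ⟨c1, Nat.Coprime.mul_right c2b (Nat.Coprime.pow_right 3 c2a), ?_⟩
  have c3 : Nat.Coprime (Q + 1) (Q ^ 3) := by
    apply Nat.Coprime.pow_right
    simp
  have h1 : Nat.gcd (Q + 1) ((Q - 1) * Q ^ 3) ∣ Q - 1 :=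
    (Nat.Coprime.coprime_dvd_left (Nat.gcd_dvd_left _ _) c3).dvd_of_dvd_mul_right (Nat.gcd_dvd_right _ _)
  have h3 : Q + 1 = (Q - 1) + 2 := by omega
  have h2 : Nat.gcd (Q + 1) ((Q - 1) * Q ^ 3) ∣ (Q - 1) + 2 := by
    conv_rhs => rw [← h3]
    exact Nat.gcd_dvd_left _ _
  exact (Nat.dvd_add_right h1).mp h2

/-- PIECE FCL -/
theorem card_fixedPointFree_split {G : Type*} [Group G] [Finite G] (B M : Subgroup G) {m : ℕ}
    (hG : Nat.card G =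
      (3 ^ (2 * m + 1)) ^ 3 * (3 ^ (2 * m + 1) - 1) * ((3 ^ (2 * m + 1)) ^ 3 + 1))
    (hM : Nat.card M = 3 ^ (2 * m + 1) + 1)
    (h2 : ∀ (g : G) (k : ℕ), g ^ 2 ^ k = 1 → g * g = 1)
    (A1 : ∀ g : G, (∃ ω : G ⧸ B, g • ω = ω) →
      g ^ ((3 ^ (2 * m + 1) - 1) * (3 ^ (2 * m + 1)) ^ 3) = 1)
    (A2 : ∀ g : G, 3 ∣ orderOf g → ∃ ω : G ⧸ B, g • ω = ω)
    (A3 : ∀ (g : G) (s : ℕ), s.Prime → s ≠ 2 → s ∣ 3 ^ (2 * m + 1) - 1 → s ∣ orderOf g →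
      ∃ ω : G ⧸ B, g • ω = ω)
    (A4 : ∀ g : G, g * g = 1 → ∃ ω : G ⧸ B, g • ω = ω)
    (A5 : ∀ (g : G) (s : ℕ), s.Prime → s ≠ 2 → s ∣ 3 ^ (2 * m + 1) + 1 → s ∣ orderOf g →
      ∃ y : G, y * g * y⁻¹ ∈ M)
    (A6 : ∀ (g : G) (p : ℕ), p.Prime → p ∣ (3 ^ (2 * m + 1)) ^ 2 - 3 ^ (2 * m + 1) + 1 →
      p ∣ orderOf g →
      ∃ T : Subgroup G, IsCyclic T ∧ (∀ y ∈ T, y ≠ 1 → ∀ c : G, c * y = y * c → c ∈ T) ∧
        Nat.card T ∣ (3 ^ (2 * m + 1)) ^ 2 - 3 ^ (2 * m + 1) + 1 ∧ g ∈ T) :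
    Nat.card {g : G // ∀ ω : G ⧸ B, g • ω ≠ ω} =
      Nat.card {g : G // g ≠ 1 ∧ ∃ T : Subgroup G, IsCyclic T ∧
        (∀ y ∈ T, y ≠ 1 → ∀ c : G, c * y = y * c → c ∈ T) ∧
        Nat.card T ∣ (3 ^ (2 * m + 1)) ^ 2 - 3 ^ (2 * m + 1) + 1 ∧ g ∈ T} +
      Nat.card {g : G // g * g ≠ 1 ∧ ∃ y : G, y * g * y⁻¹ ∈ M} := by
  have hQ3 : 3 ∣ 3 ^ (2 * m + 1) := ⟨3 ^ (2 * m), by rw [pow_succ]; ring⟩
  have hQge : 3 ≤ 3 ^ (2 * m + 1) := Nat.le_of_dvd (by positivity) hQ3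
  have hQp : ∀ s : ℕ, s.Prime → s ∣ 3 ^ (2 * m + 1) → s = 3 := fun s hs h =>
    (Nat.prime_dvd_prime_iff_eq hs Nat.prime_three).mp (hs.dvd_of_dvd_pow h)
  generalize 3 ^ (2 * m + 1) = Q at *
  obtain ⟨N, hN⟩ : ∃ N, N = Q ^ 2 - Q + 1 := ⟨_, rfl⟩
  obtain ⟨hN1, hN2, hN3⟩ := fcl_arith Q N hQ3 hQge hN
  rw [← hN] at A6 ⊢
  have hE : ∀ g : G, (∃ T : Subgroup G, IsCyclic T ∧
      (∀ y ∈ T, y ≠ 1 → ∀ c : G, c * y = y * c → c ∈ T) ∧ Nat.card T ∣ N ∧ g ∈ T) → g ^ N = 1 := by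
    rintro g ⟨T, -, -, hT, hg⟩
    obtain ⟨c, hc⟩ := hT
    have h1 : (⟨g, hg⟩ : T) ^ Nat.card T = 1 := pow_card_eq_one'
    have h' : g ^ Nat.card T = 1 := congrArg Subtype.val h1
    rw [hc, pow_mul, h', one_pow]
  have hFM : ∀ g : G, (∃ y : G, y * g * y⁻¹ ∈ M) → g ^ (Q + 1) = 1 := by
    rintro g ⟨y, hy⟩
    have h1 : (⟨_, hy⟩ : M) ^ Nat.card M = 1 := pow_card_eq_one'
    have h' : (y * g * y⁻¹) ^ (Q + 1) = 1 := by
      rw [← hM]
      exact congrArg Subtype.val h1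
    rw [conj_pow] at h'
    have h3 := congrArg (fun z => y⁻¹ * z * y) h'
    simpa [mul_assoc] using h3
  apply card_or_of_disjoint
  · intro g
    constructor
    · intro hF
      have hgg : g * g ≠ 1 := fun h => by
        obtain ⟨ω, hω⟩ := A4 g h
        exact hF ω hω
      have hg1 : g ≠ 1 := by
        rintro rfl
        exact hgg (one_mul 1)
      have hord : ∃ s : ℕ, s.Prime ∧ s ≠ 2 ∧ s ∣ orderOf g := by
        by_contra hcon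
        push Not at hcon
        have h5 := Nat.eq_prime_pow_of_unique_prime_dvd (n := orderOf g) (p := 2)
          (orderOf_pos g).ne' (fun {d} hd hdg => by
            by_contra hd2
            exact hcon d hd hd2 hdg)
        apply hgg
        apply h2 g (orderOf g).primeFactorsList.length
        rw [← h5]
        exact pow_orderOf_eq_one g
      obtain ⟨s, hs, hs2, hsg⟩ := hord
      have hs3 : s ≠ 3 := by
        rintro rfl
        obtain ⟨ω, hω⟩ := A2 g hsg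
        exact hF ω hω
      have hsG : s ∣ Q ^ 3 * (Q - 1) * (Q ^ 3 + 1) := by
        rw [← hG]
        exact hsg.trans (orderOf_dvd_natCard g)
      have hsQ : ¬ s ∣ Q := by
        intro h
        exact hs3 (hQp s hs h)
      rcases Cfsg.Agent.Helper20.ree_prime_cases (by omega) hs hsQ hsG with h | h | h
      · obtain ⟨ω, hω⟩ := A3 g s hs hs2 h hsg
        exact absurd hω (hF ω)
      · right
        exact ⟨hgg, A5 g s hs hs2 h hsg⟩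
      · left
        rw [← hN] at h
        exact ⟨hg1, A6 g s hs h hsg⟩
    · rintro (⟨hg1, hT⟩ | ⟨hgg, hy⟩)
      · intro ω hω
        have h1 := A1 g ⟨ω, hω⟩
        have h2' := hE g hT
        have h3 : g ^ Nat.gcd N ((Q - 1) * Q ^ 3) = 1 := pow_gcd_eq_one.mpr ⟨h2', h1⟩
        rw [hN2.gcd_eq_one, pow_one] at h3
        exact hg1 h3
      · intro ω hω
        have h1 := A1 g ⟨ω, hω⟩
        have h2' := hFM g hy
        have h3 : g ^ Nat.gcd (Q + 1) ((Q - 1) * Q ^ 3) = 1 := pow_gcd_eq_one.mpr ⟨h2', h1⟩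
        obtain ⟨c, hc⟩ := hN3
        apply hgg
        rw [← pow_two, hc, pow_mul, h3, one_pow]
  · rintro g ⟨hg1, hT⟩ ⟨hgg, hy⟩
    have h1 := hE g hT
    have h2' := hFM g hy
    have h3 : g ^ Nat.gcd N (Q + 1) = 1 := pow_gcd_eq_one.mpr ⟨h1, h2'⟩
    rw [hN1.gcd_eq_one, pow_one] at h3
    exact hg1 h3

end Cfsg.Agent.Helper28
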