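import Mathlib
set_option autoImplicit false

/-! # CALL S1159, piece P3: 3-elements of `PSL_2` in characteristic 3 have order dividing 3 -/

namespace Cfsg.Agent.Helper28

/-- a nilpotent `2 × 2` matrix over a field has square zero -/
theorem p3_nilp {F : Type*} [Field F] (N : Matrix (Fin 2) (Fin 2) F) (m : ℕ) (hN : N ^ m = 0) :
    N * N = 0 := by
  have hCH : N * N = N.trace • N - N.det • (1 : Matrix (Fin 2) (Fin 2) F) := by
    ext i j
    fin_cases i <;> fin_cases j <;>
      simp [Matrix.mul_apply, Fin.sum_univ_two, Matrix.trace, Matrix.det_fin_two] <;> ring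
  have hdet : N.det = 0 := by
    have h := congrArg Matrix.det hN
    rw [Matrix.det_pow, Matrix.det_zero] at h
    by_contra hne
    exact pow_ne_zero _ hne h
  rw [hdet, zero_smul, sub_zero] at hCH
  have hpow : ∀ j : ℕ, N ^ (j + 1) = N.trace ^ j • N := by
    intro j
    induction j with
    | zero => simp
    | succ j ih => rw [pow_succ, ih, Matrix.smul_mul, hCH, smul_smul, pow_succ]
  rcases Nat.eq_zero_or_pos m with rfl | hm
  · rw [pow_zero] at hN
    have h0 : N = 0 := by rw [← Matrix.mul_one N, hN, Matrix.mul_zero]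
    rw [h0, Matrix.mul_zero]
  · obtain ⟨j, rfl⟩ : ∃ j, m = j + 1 := ⟨m - 1, by omega⟩
    rw [hpow j] at hN
    rcases smul_eq_zero.mp hN with h | h
    · have ht : N.trace = 0 := by
        by_contra hne
        exact pow_ne_zero _ hne h
      rw [hCH, ht, zero_smul]
    · rw [h, Matrix.mul_zero]

/-- PIECE P3 -/
theorem psl2_three_elem_cube {F : Type*} [Field F] [Fintype F] [CharP F 3]
    (x : Matrix.ProjectiveSpecialLinearGroup (Fin 2) F) (k : ℕ) (hx : x ^ 3 ^ k = 1) :
    x ^ 3 = 1 := by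
  have : Fact (Nat.Prime 3) := ⟨Nat.prime_three⟩
  obtain ⟨A, rfl⟩ := QuotientGroup.mk_surjective x
  rw [← QuotientGroup.mk_pow, QuotientGroup.eq_one_iff] at hx ⊢
  rw [Matrix.SpecialLinearGroup.mem_center_iff] at hx ⊢
  obtain ⟨r, hr, hA⟩ := hx
  simp only [Fintype.card_fin] at hr
  have hA' : (A : Matrix (Fin 2) (Fin 2) F) ^ 3 ^ k = r • (1 : Matrix (Fin 2) (Fin 2) F) := by
    rw [← Matrix.SpecialLinearGroup.coe_pow, ← hA, Matrix.smul_one_eq_diagonal]
    rfl
  have hr3 : r ^ 3 ^ k = r := by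
    obtain ⟨j, hj⟩ : Odd (3 ^ k) := Odd.pow (by decide)
    rw [hj, pow_succ, pow_mul, hr, one_pow, one_mul]
  have hr3' : r ^ 3 = r := by
    rw [pow_succ, hr, one_mul]
  have hcomm : Commute (A : Matrix (Fin 2) (Fin 2) F) (r • (1 : Matrix (Fin 2) (Fin 2) F)) :=
    (Commute.one_right _).smul_right r
  have hN : ((A : Matrix (Fin 2) (Fin 2) F) - r • (1 : Matrix (Fin 2) (Fin 2) F)) ^ 3 ^ k = 0 := by
    rw [sub_pow_char_pow_of_commute 3 k hcomm, hA', smul_pow, one_pow, hr3, sub_self]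
  have hNN := p3_nilp _ _ hN
  have hcomm2 : Commute (r • (1 : Matrix (Fin 2) (Fin 2) F))
      ((A : Matrix (Fin 2) (Fin 2) F) - r • (1 : Matrix (Fin 2) (Fin 2) F)) :=
    (hcomm.symm.sub_right (Commute.refl _))
  have ha3 : (A : Matrix (Fin 2) (Fin 2) F) ^ 3 = r • (1 : Matrix (Fin 2) (Fin 2) F) := by
    have h1 : (A : Matrix (Fin 2) (Fin 2) F) = r • (1 : Matrix (Fin 2) (Fin 2) F) +
        ((A : Matrix (Fin 2) (Fin 2) F) - r • (1 : Matrix (Fin 2) (Fin 2) F)) := by abel
    rw [h1, add_pow_char_of_commute 3 hcomm2, smul_pow, one_pow, hr3', pow_succ, pow_two, hNN,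
      Matrix.zero_mul, add_zero]
  refine ⟨r, by simpa using hr, ?_⟩
  rw [Matrix.SpecialLinearGroup.coe_pow, ha3, Matrix.smul_one_eq_diagonal]
  rfl

end Cfsg.Agent.Helper28
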