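import Mathlib
import Cfsg.Agent.Helper28.TCL

/-!
# Word identities through a certified column of the final table (helper28)

A word `w` whose action on the final table is stored as a column `tau` (checked pointwise) can be compared
with other words cheaply: commutation with generators, and conjugation onto a generator.
-/

set_option autoImplicit false

namespace Cfsg.Agent.Helper28

/-- the word `w` acts at the point `i` as the column `tau` -/
noncomputable def colPt (T : ℕ → ℕ → ℕ) (w : List ℕ) (tau : ℕ → ℕ) (i : ℕ) : Bool :=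
  Nat.beq (walkA T w i) (tau i)

/-- the column `tau` commutes with the generator columns of `ks` at the point `i` -/
noncomputable def commPt (T : ℕ → ℕ → ℕ) (tau : ℕ → ℕ) (ks : List ℕ) (i : ℕ) : Bool :=
  listAll ks (fun k => Nat.beq (tau (T k i)) (T k (tau i)))

/-- `u tau ur` acts at the point `i` as the generator column `k` -/
noncomputable def conjPt (T : ℕ → ℕ → ℕ) (tau : ℕ → ℕ) (u ur : List ℕ) (k : ℕ) (i : ℕ) : Bool :=
  Nat.beq (walkA T u (tau (walkA T ur i))) (T k i)

theorem walkA_append (T : ℕ → ℕ → ℕ) (l1 l2 : List ℕ) (i : ℕ) :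
    walkA T (l1 ++ l2) i = walkA T l1 (walkA T l2 i) := by
  induction l1 with
  | nil => rfl
  | cons a l ih => rw [List.cons_append, walkA_cons, walkA_cons, ih]

theorem walkA_lt (T : ℕ → ℕ → ℕ) (n : ℕ) (l : List ℕ) (hT : ∀ a ∈ l, ∀ i, i < n → T a i < n)
    (i : ℕ) (hi : i < n) : walkA T l i < n := by
  induction l with
  | nil => exact hi
  | cons a l ih =>
    rw [walkA_cons]
    exact hT a List.mem_cons_self _ (ih (fun b hb => hT b (List.mem_cons_of_mem _ hb)))

theorem eq_of_col_comm (T : ℕ → ℕ → ℕ) (n : ℕ) (w : List ℕ) (tau : ℕ → ℕ) (ks : List ℕ)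
    (hcol : ∀ i, i < n → colPt T w tau i = true) (hcomm : ∀ i, i < n → commPt T tau ks i = true)
    (k : ℕ) (hk : k ∈ ks) (hT : ∀ i, i < n → T k i < n) :
    ∀ i, i < n → eqPt T (k :: w) (w ++ [k]) i = true := by
  intro i hi
  unfold eqPt
  have h1 : walkA T w i = tau i := Nat.eq_of_beq_eq_true (hcol i hi)
  have h2 : walkA T w (T k i) = tau (T k i) := Nat.eq_of_beq_eq_true (hcol _ (hT i hi))
  have h3 : tau (T k i) = T k (tau i) :=
    Nat.eq_of_beq_eq_true ((listAll_iff _ _).mp (hcomm i hi) k hk)
  rw [walkA_cons, walkA_append, walkA_cons, walkA_nil, h1, h2, h3]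
  exact Nat.beq_refl _

theorem eq_of_col_conj (T : ℕ → ℕ → ℕ) (n : ℕ) (w : List ℕ) (tau : ℕ → ℕ) (u ur : List ℕ) (k : ℕ)
    (hcol : ∀ i, i < n → colPt T w tau i = true)
    (hconj : ∀ i, i < n → conjPt T tau u ur k i = true)
    (hT : ∀ a ∈ ur, ∀ i, i < n → T a i < n) :
    ∀ i, i < n → eqPt T (u ++ (w ++ ur)) [k] i = true := by
  intro i hi
  unfold eqPt
  have h1 : walkA T w (walkA T ur i) = tau (walkA T ur i) :=
    Nat.eq_of_beq_eq_true (hcol _ (walkA_lt T n ur hT i hi))
  have h2 : walkA T u (tau (walkA T ur i)) = T k i := Nat.eq_of_beq_eq_true (hconj i hi)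
  rw [walkA_append, walkA_append, h1, h2, walkA_cons, walkA_nil]
  exact Nat.beq_refl _

/-- the product of the reversed word of involutions is the inverse -/
theorem prod_reverse_inv {G : Type*} [Group G] (v : ℕ → G) (l : List ℕ)
    (h : ∀ a ∈ l, v a * v a = 1) : (l.reverse.map v).prod = ((l.map v).prod)⁻¹ := by
  induction l with
  | nil => simp
  | cons a l ih =>
    rw [List.reverse_cons, List.map_append, List.prod_append, ih (fun b hb => h b (List.mem_cons_of_mem _ hb)),
      List.map_cons, List.map_nil, List.prod_cons, List.prod_nil, mul_one, List.map_cons, List.prod_cons,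
      mul_inv_rev, inv_of_sq _ (h a List.mem_cons_self)]

section

variable {α : Type} [DecidableEq α] {edges : List (α × ℕ × α)} {extra : List (FreeGroup α)}
  {S : Set (FreeGroup α)} {gen : ℕ → α} {code : α → ℕ} {D : TCData} {n : ℕ}
  {lv : ℕ → ℕ} {T : ℕ → ℕ → ℕ} {pairs : List (ℕ × ℕ × ℕ)} {extraL subL : List (List ℕ)}
  (C : CoxCert edges extra S gen code D n lv T pairs extraL subL)
include C

omit C in
theorem coxVal_of (k : ℕ) (hk : k < D.jc) :
    coxVal edges extra gen D.jc k = PresentedGroup.of (gen k) := by
  unfold coxVal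
  rw [if_pos hk]

/-- A word whose column commutes with a generator column commutes with the generator. -/
theorem CoxCert.comm_of_col (hinj : Function.Injective C.perm) (w : List ℕ)
    (hw : ∀ a ∈ w, a < D.jc) (tau : ℕ → ℕ) (hcol : ∀ i, i < n → colPt T w tau i = true)
    (ks : List ℕ) (hcomm : ∀ i, i < n → commPt T tau ks i = true) (k : ℕ) (hk : k ∈ ks)
    (hkj : k < D.jc) :
    (PresentedGroup.of (gen k) : Cfsg.Spor.CoxPresented α edges extra) *
        (w.map (coxVal edges extra gen D.jc)).prod =
      (w.map (coxVal edges extra gen D.jc)).prod * PresentedGroup.of (gen k) := by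
  have h := C.word_eq hinj (k :: w) (w ++ [k])
    (fun a ha => by
      rcases List.mem_cons.mp ha with e | e
      · rw [e]; exact hkj
      · exact hw a e)
    (fun a ha => by
      rcases List.mem_append.mp ha with e | e
      · exact hw a e
      · rw [List.mem_singleton.mp e]; exact hkj)
    (eq_of_col_comm T n w tau ks hcol hcomm k hk (C.hfin.hT k hkj))
  rw [List.map_cons, List.prod_cons, List.map_append, List.prod_append, List.map_cons, List.map_nil,
    List.prod_cons, List.prod_nil, mul_one, coxVal_of k hkj] at h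
  exact h

/-- A word whose column is conjugated onto a generator column by the word `u`. -/
theorem CoxCert.conj_of_col (hinj : Function.Injective C.perm) (w : List ℕ)
    (hw : ∀ a ∈ w, a < D.jc) (tau : ℕ → ℕ) (hcol : ∀ i, i < n → colPt T w tau i = true)
    (u : List ℕ) (hu : ∀ a ∈ u, a < D.jc) (k : ℕ) (hkj : k < D.jc)
    (hconj : ∀ i, i < n → conjPt T tau u u.reverse k i = true) :
    (u.map (coxVal edges extra gen D.jc)).prod * (w.map (coxVal edges extra gen D.jc)).prod *
        ((u.map (coxVal edges extra gen D.jc)).prod)⁻¹ =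
      (PresentedGroup.of (gen k) : Cfsg.Spor.CoxPresented α edges extra) := by
  have hur : ∀ a ∈ u.reverse, a < D.jc := fun a ha => hu a (List.mem_reverse.mp ha)
  have h := C.word_eq hinj (u ++ (w ++ u.reverse)) [k]
    (fun a ha => by
      rcases List.mem_append.mp ha with e | e
      · exact hu a e
      · rcases List.mem_append.mp e with e' | e'
        · exact hw a e'
        · exact hur a e')
    (fun a ha => by rw [List.mem_singleton.mp ha]; exact hkj)
    (eq_of_col_conj T n w tau u u.reverse k hcol hconj
      (fun a ha i hi => C.hfin.hT a (hur a ha) i hi))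
  rw [List.map_append, List.prod_append, List.map_append, List.prod_append,
    prod_reverse_inv _ u (fun a ha => C.valInv a (le_of_lt (hu a ha))),
    List.map_cons, List.map_nil, List.prod_cons, List.prod_nil, mul_one, coxVal_of k hkj,
    ← mul_assoc] at h
  exact h

end

end Cfsg.Agent.Helper28
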