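import Cfsg.Agent.Helper28.TCL2

/-!
# Word identities from a base (helper28)

When the pointwise stabiliser of a list of points is trivial, two words in the generators are equal
as soon as they move these points alike; and the coset of a word is the point the word leads to.
-/

set_option autoImplicit false

namespace Cfsg.Agent.Helper28

/-- two words have the same images at the points of `bs` -/
noncomputable def eqBase (T : ℕ → ℕ → ℕ) (l1 l2 : List ℕ) (bs : List ℕ) : Bool :=
  listAll bs (fun b => Nat.beq (walkA T l1 b) (walkA T l2 b))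

/-- the letters of a word are below `jc` -/
noncomputable def letChk (jc : ℕ) (l : List ℕ) : Bool :=
  listAll l (fun a => Nat.blt a jc)

theorem letChk_iff (jc : ℕ) (l : List ℕ) : letChk jc l = true ↔ ∀ a ∈ l, a < jc := by
  unfold letChk
  rw [listAll_iff]
  constructor
  · intro h a ha
    exact Nat.blt_eq.mp (h a ha)
  · intro h a ha
    exact Nat.blt_eq.mpr (h a ha)

section

variable {α : Type} [DecidableEq α] {edges : List (α × ℕ × α)} {extra : List (FreeGroup α)}
  {S : Set (FreeGroup α)} {gen : ℕ → α} {code : α → ℕ} {D : TCData} {n : ℕ}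
  {lv : ℕ → ℕ} {T : ℕ → ℕ → ℕ} {pairs : List (ℕ × ℕ × ℕ)} {extraL subL : List (List ℕ)}
  (C : CoxCert edges extra S gen code D n lv T pairs extraL subL)
include C

/-- Two words with the same action on a base have the same value. -/
theorem CoxCert.word_eq_base (bs : List ℕ) (hbs : fixSub C.perm bs = ⊥)
    (l1 l2 : List ℕ) (h1 : letChk D.jc l1 = true) (h2 : letChk D.jc l2 = true)
    (hw : eqBase T l1 l2 bs = true) :
    (l1.map (coxVal edges extra gen D.jc)).prod = (l2.map (coxVal edges extra gen D.jc)).prod := by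
  have h1' := (letChk_iff _ _).mp h1
  have h2' := (letChk_iff _ _).mp h2
  have hmem : ((l2.map (coxVal edges extra gen D.jc)).prod)⁻¹ *
      (l1.map (coxVal edges extra gen D.jc)).prod ∈ fixSub C.perm bs := by
    intro b hb i hi
    rw [map_mul, map_inv, Equiv.Perm.mul_apply, Equiv.Perm.inv_eq_iff_eq]
    apply Fin.ext
    rw [C.perm_list l1 h1' i, C.perm_list l2 h2' i, hi]
    exact Nat.eq_of_beq_eq_true ((listAll_iff _ _).mp hw b hb)
  rw [hbs, Subgroup.mem_bot] at hmem
  exact (inv_mul_eq_one.mp hmem).symm

/-- The coset of a word is the point the word leads to. -/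
theorem CoxCert.equiv_mk_word
    (e : (Cfsg.Spor.CoxPresented α edges extra) ⧸ ((Subgroup.closure S).map
        (PresentedGroup.mk (Cfsg.Spor.coxRelators edges ∪ {r | r ∈ extra}))) ≃ Fin n)
    (he : ∀ (x : Cfsg.Spor.CoxPresented α edges extra) q, e (x • q) = C.perm x (e q))
    (he1 : e (QuotientGroup.mk 1) = ⟨0, C.hn⟩)
    (l : List ℕ) (hl : letChk D.jc l = true) (p : ℕ) (hp : p < n) (hwalk : walkA T l 0 = p) :
    (QuotientGroup.mk ((l.map (coxVal edges extra gen D.jc)).prod) :
      (Cfsg.Spor.CoxPresented α edges extra) ⧸ ((Subgroup.closure S).map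
        (PresentedGroup.mk (Cfsg.Spor.coxRelators edges ∪ {r | r ∈ extra})))) = e.symm ⟨p, hp⟩ := by
  apply e.injective
  rw [Equiv.apply_symm_apply]
  have h1 : (QuotientGroup.mk ((l.map (coxVal edges extra gen D.jc)).prod) :
      (Cfsg.Spor.CoxPresented α edges extra) ⧸ ((Subgroup.closure S).map
        (PresentedGroup.mk (Cfsg.Spor.coxRelators edges ∪ {r | r ∈ extra})))) =
      ((l.map (coxVal edges extra gen D.jc)).prod) • (QuotientGroup.mk 1) := by
    rw [MulAction.Quotient.smul_mk, smul_eq_mul, mul_one]
  rw [h1, he, he1]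
  apply Fin.ext
  rw [C.perm_list l ((letChk_iff _ _).mp hl)]
  exact hwalk

end

end Cfsg.Agent.Helper28
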